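import Cfsg.Agent.Lib.BrauerPairs.ValTransport
import Cfsg.Agent.Lib.BrauerCharacters.PrincipalSection
import Cfsg.Agent.Lib.Clifford.Eigen
import Cfsg.Agent.Lib.BrauerPairs.NilpotentRank

/-!
# The characters of a nilpotent block with abelian defect group as twists of one of them

For a member `θ` of the block the products of `θ` with the linear characters of the defect group are
the members; their Fourier sums are central elements over the local ring representing the defect
group; an automorphism fixing the pair permutes the twists like the linear characters.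
-/

set_option autoImplicit false
set_option linter.style.haveILetI false
set_option linter.unusedSectionVars false

noncomputable section

namespace CfsgLib.Jordan.CyclicDefect

open Cfsg CfsgLib.Blocks MonoidAlgebra CfsgLib.BrauerPairs CfsgLib.BlockStar

variable {C : Type*} [Group C] [Fintype C] {M : Ideal AlgInt} [M.IsPrime] {p : ℕ} [Fact p.Prime]

/-- A nilpotent block with abelian defect group and a maximal pair. -/
structure AbNilp (p : ℕ) [Fact p.Prime] (M : Ideal AlgInt) [M.IsPrime]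
    (b : Set (IrrCharacter C)) (P : Subgroup C) (e0 : MonoidAlgebra (Res M) C) : Prop where
  hM : IsPModular p M
  hB : IsPBlock M b
  hmax : IsMaxPair p (⊤ : Subgroup C) (redElem M (blockCoeff b)) P e0
  hnil : IsNilp p (⊤ : Subgroup C) (redElem M (blockCoeff b))
  comm : ∀ x ∈ P, ∀ y ∈ P, x * y = y * x

variable [CharP (Res M) p] [IsAlgClosed (Res M)]
  {b : Set (IrrCharacter C)} {P : Subgroup C} {e0 : MonoidAlgebra (Res M) C}

theorem Lam_eq_LamF (l : P →* ℂˣ) (u : C) (c : MonoidAlgebra (Res M) C) :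
    Lam p e0 l u c = LamF p P e0 (lamAt l) u c := rfl

variable (H : AbNilp p M b P e0)
include H

theorem AbNilp.nilpotentBlock : IsNilpotentBlock p M b :=
  (isNilpotentBlock_iff H.hM).2 ⟨H.hB, H.hnil⟩

theorem AbNilp.isDefectGroup : IsDefectGroup p M b P :=
  (isDefectGroup_iff H.hM H.hB).2 (H.hmax.isDefectIn (isBlockIdem_redElem_blockCoeff H.hB))

theorem AbNilp.height_zero {χ : IrrCharacter C} (hχ : χ ∈ b) :
    blockHeight p b (χ : C → ℂ) = 0 :=
  (blockRank_eq_one_of_nilpotent_abelian H.hM H.nilpotentBlock H.isDefectGroup H.comm).2.2 χ hχ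

theorem AbNilp.stableFun (l : P →* ℂˣ) : StableFun p P e0 (lamAt l) :=
  stableFun_of_nilp H.hM H.hB H.hmax H.hnil fun w hw v hv => by
    rw [H.comm w hw v hv, mul_inv_cancel_right]

theorem AbNilp.fusInv (l : P →* ℂˣ) : FusInv p e0 l := fun u g c h1 h2 => H.stableFun l u g c h1 h2

/-- At a pair of the block the scalar is a value of `l`, elsewhere the block part vanishes. -/
theorem AbNilp.lam_cases (g : C) (c : MonoidAlgebra (Res M) C)
    (hc : c ∈ blocksAt M (ppart p g)) :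
    (∃ (x : C) (h : x * ppart p g * x⁻¹ ∈ P),
      PairLE p (⊤ : Subgroup C) (Subgroup.zpowers (x * ppart p g * x⁻¹)) (conjA x c) P e0 ∧
      ∀ l : P →* ℂˣ, Lam p e0 l (ppart p g) c = (l ⟨_, h⟩ : ℂ)) ∨
    ∀ χ ∈ b, val χ g c = 0 := by
  have hb := isBlockIdem_redElem_blockCoeff (M := M) H.hB
  by_cases hp : PairOf p (⊤ : Subgroup C) (redElem M (blockCoeff b))
      (Subgroup.zpowers (ppart p g)) c
  · obtain ⟨x, hx⟩ := (exists_conj_iff hb H.hmax).2 hp
    refine Or.inl ⟨x, hx.le (Subgroup.mem_zpowers _), hx, fun l => ?_⟩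
    rw [Lam_eq (H.fusInv l) hx, lamAt_of_mem]
  · exact Or.inr fun χ hχ => val_eq_zero_of_not_pairOf H.hM H.hB hχ (mem_blockIdems.1 hc) hp

theorem AbNilp.exists_th {θ : IrrCharacter C} (hθ : θ ∈ b) (l : P →* ℂˣ) :
    ∃ ψ : IrrCharacter C, ψ ∈ b ∧ (ψ : C → ℂ) 1 = (θ : C → ℂ) 1 ∧
      ∀ g : C, ∀ c ∈ blocksAt M (ppart p g),
        val ψ g c = Lam p e0 l (ppart p g) c * val θ g c :=
  exists_star H.hM H.hB H.hmax (H.fusInv l) hθ

variable {θ : IrrCharacter C} (hθ : θ ∈ b)

/-- The twist of `θ` by `l`. -/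
def AbNilp.th (l : P →* ℂˣ) : IrrCharacter C := (H.exists_th hθ l).choose

theorem AbNilp.th_mem (l : P →* ℂˣ) : H.th hθ l ∈ b := (H.exists_th hθ l).choose_spec.1

theorem AbNilp.th_deg (l : P →* ℂˣ) : (H.th hθ l : C → ℂ) 1 = (θ : C → ℂ) 1 :=
  (H.exists_th hθ l).choose_spec.2.1

theorem AbNilp.th_val (l : P →* ℂˣ) (g : C) (c : MonoidAlgebra (Res M) C)
    (hc : c ∈ blocksAt M (ppart p g)) :
    val (H.th hθ l) g c = Lam p e0 l (ppart p g) c * val θ g c :=
  (H.exists_th hθ l).choose_spec.2.2 g c hc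

theorem AbNilp.th_apply (l : P →* ℂˣ) (g : C) :
    (H.th hθ l : C → ℂ) g =
      ∑ c ∈ blocksAt M (ppart p g), Lam p e0 l (ppart p g) c * val θ g c := by
  rw [apply_eq_sum_val (M := M) (p := p)]
  exact Finset.sum_congr rfl fun c hc => H.th_val hθ l g c hc

theorem AbNilp.th_regular (l : P →* ℂˣ) {g : C} (hg : ¬ p ∣ orderOf g) :
    (H.th hθ l : C → ℂ) g = (θ : C → ℂ) g := by
  have h := starF_regular H.hM H.hB H.hmax hθ (H.stableFun l) hg
  rw [show (1 : C) = ((1 : P) : C) from rfl, lamAt_of_mem l (1 : P).2] at h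
  rw [H.th_apply hθ]
  rw [starF] at h
  simp only [Lam_eq_LamF]
  rw [h, show (⟨((1 : P) : C), (1 : P).2⟩ : P) = 1 from rfl, map_one, Units.val_one, one_mul]

omit H [CharP (Res M) p] [IsAlgClosed (Res M)] in
theorem ext_val {χ ψ : IrrCharacter C}
    (h : ∀ g : C, ∀ c ∈ blocksAt M (ppart p g), val χ g c = val ψ g c) : χ = ψ :=
  Subtype.ext (funext fun g => by
    rw [apply_eq_sum_val (M := M) (p := p) χ g, apply_eq_sum_val (M := M) (p := p) ψ g]
    exact Finset.sum_congr rfl (h g))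

theorem AbNilp.th_one : H.th hθ 1 = θ := by
  refine ext_val (M := M) (p := p) fun g c hc => ?_
  rw [H.th_val hθ 1 g c hc]
  rcases H.lam_cases g c hc with ⟨x, h, -, hx⟩ | h0
  · rw [hx, MonoidHom.one_apply, Units.val_one, one_mul]
  · rw [h0 θ hθ, mul_zero]

theorem AbNilp.th_th (m l : P →* ℂˣ) : H.th (H.th_mem hθ m) l = H.th hθ (l * m) := by
  refine ext_val (M := M) (p := p) fun g c hc => ?_
  rw [H.th_val (H.th_mem hθ m) l g c hc, H.th_val hθ m g c hc, H.th_val hθ (l * m) g c hc,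
    ← mul_assoc]
  rcases H.lam_cases g c hc with ⟨x, h, -, hx⟩ | h0
  · rw [hx, hx, hx, MonoidHom.mul_apply, Units.val_mul]
  · rw [h0 θ hθ, mul_zero, mul_zero]

theorem AbNilp.th_injective : Function.Injective (H.th hθ) := by
  intro l m h
  refine MonoidHom.ext fun v => Units.ext ?_
  obtain ⟨c, g, hc, hg, hne⟩ :=
    exists_val_ne_zero_of_height_zero H.hM H.hB H.hmax hθ (H.height_zero hθ) v.2
  have hcb : c ∈ blocksAt M (ppart p g) := by
    rw [hg]; exact mem_blockIdems.2 (hc.isPair_left H.hmax.1.1).2.2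
  have hpair : PairLE p (⊤ : Subgroup C) (Subgroup.zpowers (1 * ppart p g * 1⁻¹)) (conjA 1 c) P e0 := by
    rwa [conjA_one, one_mul, inv_one, mul_one, hg]
  have h1 : ∀ k : P →* ℂˣ, Lam p e0 k (ppart p g) c = (k v : ℂ) := fun k => by
    rw [Lam_eq (H.fusInv k) hpair, one_mul, inv_one, mul_one, hg, lamAt_of_mem k v.2]
  have h2 := H.th_val hθ l g c hcb
  rw [h, H.th_val hθ m g c hcb, h1, h1] at h2
  exact mul_right_cancel₀ hne h2.symm

omit [CharP (Res M) p] [IsAlgClosed (Res M)] in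
theorem AbNilp.card_homs : Nat.card (P →* ℂˣ) = Nat.card P := by
  letI : CommGroup P :=
    { (inferInstance : Group P) with mul_comm := fun x y => Subtype.ext (H.comm _ x.2 _ y.2) }
  exact CommGroup.card_monoidHom_of_hasEnoughRootsOfUnity P ℂ

omit [CharP (Res M) p] [IsAlgClosed (Res M)] in
theorem AbNilp.sum_homs [DecidablePred fun v : P => v = 1] (v : P) :
    ∑ l : P →* ℂˣ, (l v : ℂ) = if v = 1 then (Nat.card P : ℂ) else 0 := by
  letI : CommGroup P :=
    { (inferInstance : Group P) with mul_comm := fun x y => Subtype.ext (H.comm _ x.2 _ y.2) }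
  exact Brauer.sum_homUnits_apply v

theorem AbNilp.exists_th_eq {ψ : IrrCharacter C} (hψ : ψ ∈ b) : ∃ l, H.th hθ l = ψ := by
  have hcard :=
    (blockRank_eq_one_of_nilpotent_abelian H.hM H.nilpotentBlock H.isDefectGroup H.comm).2.1
  haveI : Finite b := Set.toFinite b
  have hbij : Function.Bijective (fun l => (⟨H.th hθ l, H.th_mem hθ l⟩ : b)) :=
    (Nat.bijective_iff_injective_and_card _).2
      ⟨fun l m h => H.th_injective hθ (congrArg Subtype.val h), by rw [H.card_homs, hcard]⟩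
  obtain ⟨l, hl⟩ := hbij.2 ⟨ψ, hψ⟩
  exact ⟨l, congrArg Subtype.val hl⟩

theorem AbNilp.image_th : Set.range (H.th hθ) = b :=
  Set.ext fun _ => ⟨fun ⟨l, h⟩ => h ▸ H.th_mem hθ l, H.exists_th_eq hθ⟩

/-! ### The central elements -/

/-- The Fourier sum of the central idempotents at `v`. -/
def AbNilp.zcFun (v : P) (g : C) : ℂ :=
  ∑ l : P →* ℂˣ, (l v : ℂ) * blockCoeff {H.th hθ l} g

omit [CharP (Res M) p] [IsAlgClosed (Res M)] H in
theorem memLocalRing_val (χ : IrrCharacter C) (g : C) (ε : MonoidAlgebra (Res M) C) :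
    MemLocalRing M (val χ g ε) := by
  unfold val
  split_ifs with h
  · refine memLocalRing_sum fun x _ => memLocalRing_mul (Subtype.prop _)
      (memLocalRing_of_isIntegral
        (CharTheory.IsCharacter.isIntegral (CharTheory.IsIrrCharacter.isCharacter χ.2) x))
  · exact zero_mem (locRing M)

include hθ in
theorem AbNilp.memLocalRing_scale :
    MemLocalRing M ((Nat.card C : ℂ)⁻¹ * (θ : C → ℂ) 1 * Nat.card P) := by
  haveI : M.IsMaximal := H.hM.2.1
  obtain ⟨d, hd, hdpos, -⟩ : ∃ d : ℕ, (θ : C → ℂ) 1 = d ∧ 0 < d ∧ d = charDegree (θ : C → ℂ) :=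
    ⟨_, (BrauerCharacters.charDegree_spec θ).1, (BrauerCharacters.charDegree_spec θ).2.1, rfl⟩
  obtain ⟨h1, h2, h3⟩ := BrauerCharacters.charDegree_spec θ
  have h := BrauerCharacters.defect_add_degree (p := p) hθ
  rw [H.height_zero hθ, add_zero] at h
  rw [h1, Blocks.card_isDefectGroup H.hM H.hB H.isDefectGroup]
  set n := charDegree (θ : C → ℂ)
  set N := Nat.card C
  have hp := (Fact.out : p.Prime)
  have hN0 : N ≠ 0 := Nat.card_pos.ne'
  obtain ⟨k, hk⟩ : N ∣ p ^ blockDefect p b * n * ordCompl[p] N := by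
    refine ⟨ordCompl[p] n, ?_⟩
    have e1 := Nat.ordProj_mul_ordCompl_eq_self N p
    have e2 := Nat.ordProj_mul_ordCompl_eq_self n p
    calc p ^ blockDefect p b * n * ordCompl[p] N
        = p ^ blockDefect p b * (ordProj[p] n * ordCompl[p] n) * ordCompl[p] N := by rw [e2]
      _ = (p ^ (blockDefect p b + n.factorization p)) * ordCompl[p] N * ordCompl[p] n := by
          rw [pow_add]; ring
      _ = N * ordCompl[p] n := by rw [h, e1]
  have hm : ¬ p ∣ ordCompl[p] N := Nat.not_dvd_ordCompl hp hN0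
  have heq : (N : ℂ)⁻¹ * n * ((p ^ blockDefect p b : ℕ) : ℂ) =
      (k : ℂ) / ((ordCompl[p] N : ℕ) : ℂ) := by
    have h0 : ((ordCompl[p] N : ℕ) : ℂ) ≠ 0 := Nat.cast_ne_zero.2 fun h0 => hm (h0 ▸ dvd_zero p)
    rw [eq_div_iff h0]
    have hkC : ((p ^ blockDefect p b : ℕ) : ℂ) * n * ((ordCompl[p] N : ℕ) : ℂ) = (N : ℂ) * k := by
      exact_mod_cast hk
    calc _ = (N : ℂ)⁻¹ * (((p ^ blockDefect p b : ℕ) : ℂ) * n * ((ordCompl[p] N : ℕ) : ℂ)) := by
          ring
      _ = k := by rw [hkC, ← mul_assoc, inv_mul_cancel₀ (Nat.cast_ne_zero.2 hN0), one_mul]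
  rw [heq, div_eq_mul_inv]
  exact memLocalRing_mul (memLocalRing_natCast _) (memLocalRing_inv_natCast H.hM hm)

theorem AbNilp.memLocalRing_zcFun (v : P) (g : C) : MemLocalRing M (H.zcFun hθ v g) := by
  classical
  haveI := Fintype.ofFinite (IrrCharacter C)
  have h1 : ∀ l, blockCoeff {H.th hθ l} g =
      (Nat.card C : ℂ)⁻¹ * (θ : C → ℂ) 1 * (H.th hθ l : C → ℂ) g⁻¹ := fun l => by
    rw [blockCoeff, finsum_mem_singleton, H.th_deg,
      CharTheory.IsIrrCharacter.inv (H.th hθ l).2, mul_assoc]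
  rw [show H.zcFun hθ v g = ∑ c ∈ blocksAt M (ppart p g⁻¹),
      ((Nat.card C : ℂ)⁻¹ * (θ : C → ℂ) 1) *
        (∑ l : P →* ℂˣ, (l v : ℂ) * Lam p e0 l (ppart p g⁻¹) c) * val θ g⁻¹ c by
    simp only [AbNilp.zcFun, h1, H.th_apply hθ, Finset.mul_sum, Finset.sum_mul]
    rw [Finset.sum_comm]
    exact Finset.sum_congr rfl fun c _ => Finset.sum_congr rfl fun l _ => by ring]
  refine memLocalRing_sum fun c hc => ?_
  rcases H.lam_cases g⁻¹ c hc with ⟨x, hxP, -, hx⟩ | h0
  · have : ∑ l : P →* ℂˣ, (l v : ℂ) * Lam p e0 l (ppart p g⁻¹) c =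
        if v * ⟨_, hxP⟩ = 1 then (Nat.card P : ℂ) else 0 := by
      rw [← H.sum_homs]
      exact Finset.sum_congr rfl fun l _ => by rw [hx, map_mul, Units.val_mul]
    rw [this]
    split_ifs
    · exact memLocalRing_mul (H.memLocalRing_scale hθ) (memLocalRing_val θ _ _)
    · rw [mul_zero, zero_mul]; exact zero_mem (locRing M)
  · rw [h0 θ hθ, mul_zero]; exact zero_mem (locRing M)

theorem AbNilp.zcFun_conj (v : P) (h x : C) :
    H.zcFun hθ v (h * x * h⁻¹) = H.zcFun hθ v x := by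
  simp only [AbNilp.zcFun, blockCoeff_conj]

/-- The central element over the local ring at `v`. -/
def AbNilp.zc (v : P) : classAlg (locRing M) C :=
  ⟨ofFun fun g => ⟨H.zcFun hθ v g, H.memLocalRing_zcFun hθ v g⟩,
    isClassElem_ofFun fun h x => Subtype.ext (H.zcFun_conj hθ v h x)⟩

theorem AbNilp.coe_coeff_zc (v : P) (g : C) :
    (((H.zc hθ v : MonoidAlgebra (locRing M) C).coeff g : locRing M) : ℂ) = H.zcFun hθ v g := rfl

theorem AbNilp.map_zc (v : P) :
    mapRingHom C (locRing M).subtype (H.zc hθ v : MonoidAlgebra (locRing M) C) =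
      ∑ l : P →* ℂˣ, (l v : ℂ) • blockIdem {H.th hθ l} := by
  classical
  refine MonoidAlgebra.ext (Finsupp.ext fun x => ?_)
  rw [coeff_mapRingHom, coeff_finsetSum_apply]
  show H.zcFun hθ v x = _
  refine Finset.sum_congr rfl fun l _ => ?_
  simp [coeff_blockIdem]

theorem AbNilp.omega_zc_th (v : P) (m : P →* ℂˣ) :
    (omegaLoc M (H.th hθ m) (H.zc hθ v) : ℂ) = (m v : ℂ) := by
  classical
  rw [coe_omegaLoc, H.map_zc, omega_finsetSum, Finset.sum_eq_single m]
  · rw [omega_smul, omega_blockIdem_of_mem (Set.mem_singleton _), mul_one]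
  · intro l _ hl
    rw [omega_smul, omega_blockIdem_of_notMem
      fun h => hl (H.th_injective hθ (Set.mem_singleton_iff.1 h)).symm, mul_zero]
  · exact fun h => absurd (Finset.mem_univ _) h

theorem AbNilp.omega_zc_of_notMem (v : P) {χ : IrrCharacter C} (hχ : χ ∉ b) :
    omegaLoc M χ (H.zc hθ v) = 0 := by
  refine Subtype.ext ?_
  rw [coe_omegaLoc, H.map_zc, omega_finsetSum]
  exact Finset.sum_eq_zero fun l _ => by
    rw [omega_smul, omega_blockIdem_of_notMem (B := {H.th hθ l})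
      (χ := χ) fun h => hχ (by rw [Set.mem_singleton_iff.1 h]; exact H.th_mem hθ l), mul_zero]

theorem AbNilp.zc_mul (v w : P) : H.zc hθ v * H.zc hθ w = H.zc hθ (v * w) := by
  refine classAlgLoc_ext fun χ => ?_
  rw [map_mul]
  by_cases hχ : χ ∈ b
  · obtain ⟨m, rfl⟩ := H.exists_th_eq hθ hχ
    refine Subtype.ext ?_
    rw [Subring.coe_mul, H.omega_zc_th, H.omega_zc_th, H.omega_zc_th, map_mul, Units.val_mul]
  · rw [H.omega_zc_of_notMem hθ v hχ, H.omega_zc_of_notMem hθ (v * w) hχ, zero_mul]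

theorem AbNilp.zc_one : H.zc hθ 1 = idemLoc M b (memLocalRing_blockCoeff H.hB) := by
  refine classAlgLoc_ext fun χ => ?_
  by_cases hχ : χ ∈ b
  · obtain ⟨m, rfl⟩ := H.exists_th_eq hθ hχ
    refine Subtype.ext ?_
    rw [H.omega_zc_th, omegaLoc_idemLoc_of_mem _ (H.th_mem hθ m), map_one, Units.val_one]
    rfl
  · rw [H.omega_zc_of_notMem hθ 1 hχ, omegaLoc_idemLoc_of_notMem _ hχ]

/-! ### Automorphisms -/

section Auto

variable (σ : C ≃* C) (hσP : P.map σ.toMonoidHom = P) (hσe : mapG σ.toMonoidHom e0 = e0)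
include hσP hσe

omit [CharP (Res M) p] [IsAlgClosed (Res M)] H hσe in
theorem mem_of_map_eq {v : C} (hv : v ∈ P) : σ v ∈ P := hσP ▸ ⟨v, hv, rfl⟩

omit [IsAlgClosed (Res M)] in
theorem AbNilp.pairLE_map {u : C} {c : MonoidAlgebra (Res M) C}
    (h : PairLE p (⊤ : Subgroup C) (Subgroup.zpowers u) c P e0) :
    PairLE p (⊤ : Subgroup C) (Subgroup.zpowers (σ u)) (mapG σ.toMonoidHom c) P e0 := by
  have hz : (Subgroup.zpowers u).map σ.toMonoidHom = Subgroup.zpowers (σ u) := by
    rw [MonoidHom.map_zpowers]; rfl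
  have htop : (⊤ : Subgroup C).map σ.toMonoidHom = ⊤ :=
    Subgroup.map_top_of_surjective _ σ.surjective
  have hc := (h.isPair_left H.hmax.1.1).2.2
  rw [← isBlockIdem_mapG_iff (φ := σ.toMonoidHom) σ.injective,
    BrauerPairs.map_cenIn σ.injective, htop, hz, cenIn_top] at hc
  refine pairLE_of_brau H.hmax.1.1
    (Subgroup.zpowers_le.2 (mem_of_map_eq σ hσP (h.le (Subgroup.mem_zpowers u)))) H.comm hc ?_
  have hbr := (normalLE_of_abelian H.hmax.1.1 H.comm h).2.2.2.2.2
  conv_lhs => rw [← hσP, mapG_brau σ.injective, ← hσe, ← map_mul, hbr]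
  exact hσe

omit [IsAlgClosed (Res M)] in
theorem AbNilp.mapG_idem :
    mapG σ.toMonoidHom (redElem M (blockCoeff b)) = redElem M (blockCoeff b) := by
  set eB := redElem M (blockCoeff b)
  have htop : (⊤ : Subgroup C).map σ.toMonoidHom = ⊤ :=
    Subgroup.map_top_of_surjective _ σ.surjective
  have hb : IsBlockIdem (⊤ : Subgroup C) eB := isBlockIdem_redElem_blockCoeff H.hB
  have hb' : IsBlockIdem (⊤ : Subgroup C) (mapG σ.toMonoidHom eB) := by
    rw [← htop]; exact (isBlockIdem_mapG_iff σ.injective).2 hb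
  have h1 : brau P eB * e0 = e0 := H.hmax.1.2
  have h2 : brau P (mapG σ.toMonoidHom eB) * e0 = e0 := by
    conv_lhs => rw [← hσP, mapG_brau σ.injective, ← hσe, ← map_mul, h1]
    exact hσe
  refine (hb'.eq_of_mul_ne_zero hb fun h0 => H.hmax.1.1.2.2.ne_zero ?_)
  have h3 : brau P (mapG σ.toMonoidHom eB * eB) * e0 = e0 := by
    rw [show brau P (mapG σ.toMonoidHom eB * eB) = brau P (mapG σ.toMonoidHom eB) * brau P eB from
      trunc_centralizer_mul H.hmax.1.1.1 (hb'.fixed_of_le le_top) (hb.fixed_of_le le_top),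
      mul_assoc, h1, h2]
  rw [← h3, h0, map_zero, zero_mul]

omit [IsAlgClosed (Res M)] in
theorem AbNilp.compIrr_mem {χ : IrrCharacter C} (hχ : χ ∈ b) : compIrr σ χ ∈ b := by
  classical
  set eB := redElem M (blockCoeff b)
  have hb : IsBlockIdem (⊤ : Subgroup C) eB := isBlockIdem_redElem_blockCoeff H.hB
  have hc1 : Commute (single (1 : C) (1 : Res M)) eB := Commute.one_left _
  have h := val_comp_iso σ χ (compIrr σ χ) (fun _ => rfl) hb.mul_self hc1
  rw [H.mapG_idem σ hσP hσe, map_one] at h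
  have h1 : ∀ ψ : IrrCharacter C, val ψ 1 eB = if ψ ∈ b then (ψ : C → ℂ) 1 else 0 := by
    intro ψ
    set E := (idemLoc M b (memLocalRing_blockCoeff H.hB) : MonoidAlgebra (locRing M) C)
    have hE : E * E = E := congrArg Subtype.val (idemLoc_mul_self (memLocalRing_blockCoeff H.hB))
    have hm : mapRingHom C (red M) E = eB := by
      refine MonoidAlgebra.ext (Finsupp.ext fun x => ?_)
      rw [coeff_mapRingHom, coeff_redElem, redC, dif_pos (memLocalRing_blockCoeff H.hB x)]
      rfl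
    rw [val_eq ψ hE hm (Commute.one_left _),
      show single (1 : C) (1 : locRing M) * E = E from one_mul E, chiSum,
      ← BrauerCharacters.sum_blockCoeff_mul_apply b ψ 1]
    exact Finset.sum_congr rfl fun g _ => by rw [mul_one]; rfl
  rw [h1, h1, if_pos hχ] at h
  by_contra hcon
  rw [if_neg hcon] at h
  exact CharTheory.apply_one_ne_zero_of_isIrr χ.2 h

/-- The restriction of the automorphism to `P`. -/
def restrictP : P →* P :=
  (σ.toMonoidHom.comp P.subtype).codRestrict P fun v => mem_of_map_eq σ hσP v.2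

theorem AbNilp.th_comp (hfix : compIrr σ θ = θ) (l : P →* ℂˣ) :
    compIrr σ (H.th hθ l) = H.th hθ (l.comp (restrictP σ hσP)) := by
  refine ext_val (M := M) (p := p) fun g c hc => ?_
  have hcb := mem_blockIdems.1 hc
  have hgc : Commute (single g (1 : Res M)) c := (commute_block hcb 0).1
  have hu : ppart p (σ g) = σ (ppart p g) :=
    ppart_eq (by
      obtain ⟨s, hs, hcs, hord, hreg⟩ := ppart_spec (p := p) g
      refine ⟨σ s, by rw [← map_mul, hs], hcs.map σ, ?_, ?_⟩
      · simpa [MulEquiv.orderOf_eq] using hord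
      · simpa [MulEquiv.orderOf_eq] using hreg)
  have hcb' : mapG σ.toMonoidHom c ∈ blocksAt M (ppart p (σ g)) := by
    refine mem_blockIdems.2 ?_
    have h1 := (isBlockIdem_mapG_iff (φ := σ.toMonoidHom) σ.injective).2 hcb
    rwa [BrauerPairs.map_cenIn σ.injective, Subgroup.map_top_of_surjective _ σ.surjective,
      MonoidHom.map_zpowers, MulEquiv.coe_toMonoidHom, ← hu] at h1
  have hval : ∀ ψ : IrrCharacter C, val (compIrr σ ψ) g c =
      val ψ (σ g) (mapG σ.toMonoidHom c) := fun ψ =>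
    (val_comp_iso σ ψ (compIrr σ ψ) (fun _ => rfl) hcb.mul_self hgc).symm
  rw [hval, H.th_val hθ l _ _ hcb', ← hval, hfix, H.th_val hθ _ g c hc]
  rcases H.lam_cases g c hc with ⟨x, hxP, hx, hx'⟩ | h0
  · congr 1
    have hp := H.pairLE_map σ hσP hσe hx
    rw [map_mul, map_mul, map_inv, ← hu] at hp
    rw [show mapG σ.toMonoidHom (conjA x c) = conjA (σ x) (mapG σ.toMonoidHom c) from
      mapG_conjA (φ := σ.toMonoidHom) σ.injective x c] at hp
    rw [Lam_eq (H.fusInv l) hp, hx', lamAt_of_mem l (hp.le (Subgroup.mem_zpowers _))]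
    refine congrArg (fun w : P => (l w : ℂ)) (Subtype.ext ?_)
    show σ x * ppart p (σ g) * (σ x)⁻¹ = σ (x * ppart p g * x⁻¹)
    rw [hu, map_mul, map_mul, map_inv]
  · rw [h0 θ hθ, mul_zero, mul_zero]

/-- For a free automorphism some member is fixed. -/
theorem AbNilp.exists_fixed (hfree : ∀ v ∈ P, σ v = v → v = 1) :
    ∃ χ ∈ b, compIrr σ χ = χ := by
  classical
  obtain ⟨θ, hθ⟩ := Blocks.isPBlock_nonempty H.hB
  obtain ⟨m, hm⟩ := H.exists_th_eq hθ (H.compIrr_mem σ hσP hσe hθ)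
  set s := restrictP σ hσP
  let Ψ : (P →* ℂˣ) → (P →* ℂˣ) := fun l => l / l.comp s
  let δ : P → P := fun v => s v * v⁻¹
  have hδ : Function.Injective δ := by
    intro v w h
    have h' : σ v * (v : C)⁻¹ = σ w * (w : C)⁻¹ := congrArg Subtype.val h
    have h1 : σ ((w : C)⁻¹ * v) = (w : C)⁻¹ * v := by
      rw [map_mul, map_inv]
      have hv := mem_of_map_eq σ hσP v.2
      have hw := mem_of_map_eq σ hσP w.2
      calc (σ w)⁻¹ * σ v = (σ w)⁻¹ * (σ v * (v : C)⁻¹) * v := by group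
        _ = (σ w)⁻¹ * (σ w * (w : C)⁻¹) * v := by rw [h']
        _ = _ := by group
    exact Subtype.ext (inv_mul_eq_one.1 (hfree _ (mul_mem (inv_mem w.2) v.2) h1)).symm
  have hΨ : Function.Injective Ψ := by
    intro l k h
    refine MonoidHom.ext fun v => ?_
    obtain ⟨w, rfl⟩ := Finite.surjective_of_injective hδ v
    have h1 : l w / l (s w) = k w / k (s w) := DFunLike.congr_fun h w
    simp only [δ, map_mul, map_inv]
    rw [← inv_inj, mul_inv, mul_inv, inv_inv, inv_inv, mul_comm, ← div_eq_mul_inv, h1,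
      div_eq_mul_inv, mul_comm]
  obtain ⟨l, hl⟩ := Finite.surjective_of_injective hΨ m
  refine ⟨H.th hθ l, H.th_mem hθ l, ext_val (M := M) (p := p) fun g c hc => ?_⟩
  -- the twist of the conjugate of `θ`
  have hcb := mem_blockIdems.1 hc
  have hgc : Commute (single g (1 : Res M)) c := (commute_block hcb 0).1
  have hu : ppart p (σ g) = σ (ppart p g) :=
    ppart_eq (by
      obtain ⟨s', hs, hcs, hord, hreg⟩ := ppart_spec (p := p) g
      refine ⟨σ s', by rw [← map_mul, hs], hcs.map σ, ?_, ?_⟩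
      · simpa [MulEquiv.orderOf_eq] using hord
      · simpa [MulEquiv.orderOf_eq] using hreg)
  have hcb' : mapG σ.toMonoidHom c ∈ blocksAt M (ppart p (σ g)) := by
    refine mem_blockIdems.2 ?_
    have h1 := (isBlockIdem_mapG_iff (φ := σ.toMonoidHom) σ.injective).2 hcb
    rwa [BrauerPairs.map_cenIn σ.injective, Subgroup.map_top_of_surjective _ σ.surjective,
      MonoidHom.map_zpowers, MulEquiv.coe_toMonoidHom, ← hu] at h1
  have hval : ∀ ψ : IrrCharacter C, val (compIrr σ ψ) g c =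
      val ψ (σ g) (mapG σ.toMonoidHom c) := fun ψ =>
    (val_comp_iso σ ψ (compIrr σ ψ) (fun _ => rfl) hcb.mul_self hgc).symm
  rw [hval, H.th_val hθ l _ _ hcb', ← hval, ← hm, H.th_val hθ m g c hc, H.th_val hθ l g c hc,
    ← mul_assoc]
  rcases H.lam_cases g c hc with ⟨x, hxP, hx, hx'⟩ | h0
  · congr 1
    have hp := H.pairLE_map σ hσP hσe hx
    rw [map_mul, map_mul, map_inv, ← hu] at hp
    rw [show mapG σ.toMonoidHom (conjA x c) = conjA (σ x) (mapG σ.toMonoidHom c) from
      mapG_conjA (φ := σ.toMonoidHom) σ.injective x c] at hp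
    rw [Lam_eq (H.fusInv l) hp, hx', hx', lamAt_of_mem l (hp.le (Subgroup.mem_zpowers _))]
    have hw : (⟨_, hp.le (Subgroup.mem_zpowers _)⟩ : P) = s ⟨_, hxP⟩ := Subtype.ext (by
      show σ x * ppart p (σ g) * (σ x)⁻¹ = σ (x * ppart p g * x⁻¹)
      rw [hu, map_mul, map_mul, map_inv])
    rw [hw, ← hl, ← Units.val_mul]
    congr 1
    show l (s _) * (l _ / l (s _)) = l _
    rw [mul_comm, div_mul_cancel]
  · rw [h0 θ hθ, mul_zero, mul_zero]

end Auto

end CfsgLib.Jordan.CyclicDefect
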