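import Cfsg.Agent.Lib.BlockStar.Lifting
import Cfsg.Agent.Lib.CharTheory.Basic
import Cfsg.Agent.Lib.BlockStar.Primitive
import Cfsg.Agent.Lib.BrauerCharacters.Reduction
import Cfsg.Agent.Lib.DefectOne.Simple

/-!
# Representations over a valuation ring above the local ring

A valuation subring of `ℂ` containing the local ring of the algebraic integers, with an
algebraically closed residue field; every irreducible character is afforded over it by a lattice
whose reduction has local commutant.
-/

set_option autoImplicit false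
set_option linter.style.haveILetI false
set_option linter.unusedSectionVars false

noncomputable section

namespace CfsgLib.Jordan.CyclicDefect

open Cfsg CfsgLib.Blocks MonoidAlgebra Polynomial
open scoped Matrix

/-- A valuation subring above the local ring at `M`. -/
structure Above (M : Ideal AlgInt) [M.IsPrime] where
  /-- the valuation subring -/
  V : ValuationSubring ℂ
  le : ∀ z : ℂ, MemLocalRing M z → z ∈ V
  nonunit : ∀ z : ℂ, MemLocalIdeal M z → z ∈ V.nonunits

variable {M : Ideal AlgInt} [M.IsPrime]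

theorem exists_above : Nonempty (Above M) := by
  obtain ⟨V, hle, hV⟩ := Ideal.image_subset_nonunits_valuationSubring
    (IsLocalRing.maximalIdeal (locRing M)) (IsLocalRing.maximalIdeal.isMaximal _).ne_top
  refine ⟨⟨V, fun z hz => hle hz, fun z hz => hV ⟨⟨z, memLocalRing_of_memLocalIdeal hz⟩, ?_, rfl⟩⟩⟩
  exact (IsLocalRing.residue_eq_zero_iff _).1 ((red_eq_zero_iff _).2 hz)

variable (S : Above M)

/-- The residue field. -/
abbrev Above.K : Type := IsLocalRing.ResidueField S.V

/-- The reduction. -/
abbrev Above.res : S.V →+* S.K := IsLocalRing.residue S.V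

/-- The local ring inside the valuation ring. -/
def Above.ιV : locRing M →+* S.V where
  toFun z := ⟨(z : ℂ), S.le _ z.2⟩
  map_one' := rfl
  map_mul' _ _ := rfl
  map_zero' := rfl
  map_add' _ _ := rfl

theorem Above.res_ιV_eq_zero {z : locRing M} (hz : red M z = 0) : S.res (S.ιV z) = 0 := by
  rw [IsLocalRing.residue_eq_zero_iff]
  exact ValuationSubring.coe_mem_nonunits_iff.1 (S.nonunit _ ((red_eq_zero_iff _).1 hz))

/-- The residue fields. -/
def Above.κ : Res M →+* S.K :=
  Ideal.Quotient.lift _ (S.res.comp S.ιV) fun z hz =>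
    S.res_ιV_eq_zero ((IsLocalRing.residue_eq_zero_iff _).2 hz)

theorem Above.κ_red (z : locRing M) : S.κ (red M z) = S.res (S.ιV z) :=
  Ideal.Quotient.lift_mk _ _ _

theorem Above.res_eq_of_sub {x y : ℂ} (hx : MemLocalRing M x) (hy : MemLocalRing M y)
    (h : MemLocalIdeal M (x - y)) :
    S.res ⟨x, S.le _ hx⟩ = S.res ⟨y, S.le _ hy⟩ := by
  have h1 := S.res_ιV_eq_zero (z := (⟨x, hx⟩ : locRing M) - ⟨y, hy⟩) ((red_eq_zero_iff _).2 h)
  rwa [map_sub, map_sub, sub_eq_zero] at h1

theorem Above.charP {p : ℕ} [Fact p.Prime] (hM : IsPModular p M) : CharP S.K p := by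
  haveI := charP_res hM
  exact charP_of_injective_ringHom S.κ.injective p

theorem Above.mem_of_root {z : ℂ} {f : S.V[X]} (hf : f.Monic)
    (hz : Polynomial.eval₂ S.V.subtype z f = 0) : z ∈ S.V := by
  obtain ⟨v, hv⟩ := (IsIntegrallyClosed.isIntegral_iff (R := S.V) (K := ℂ)).1 ⟨f, hf, hz⟩
  exact hv ▸ v.2

/-- Monic polynomials over the valuation ring split. -/
theorem Above.exists_eq_prod_roots {f : S.V[X]} (hf : f.Monic) :
    ∃ s : Multiset S.V, f = (s.map fun a => X - C a).prod := by
  have hs := IsAlgClosed.splits (f.map S.V.subtype)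
  have hroot : ∀ z ∈ (f.map S.V.subtype).roots, z ∈ S.V := fun z hz => by
    refine S.mem_of_root hf ?_
    have := (mem_roots'.1 hz).2
    rwa [IsRoot, eval_map] at this
  refine ⟨(f.map S.V.subtype).roots.attach.map fun z => ⟨z.1, hroot z.1 z.2⟩, ?_⟩
  refine map_injective S.V.subtype Subtype.val_injective ?_
  conv_lhs => rw [hs.eq_prod_roots_of_monic (hf.map _)]
  rw [Polynomial.map_multiset_prod, Multiset.map_map, Multiset.map_map]
  conv_lhs => rw [← Multiset.attach_map_val (f.map S.V.subtype).roots, Multiset.map_map]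
  simp [Function.comp_def]

instance Above.isAlgClosed : IsAlgClosed S.K := by
  refine IsAlgClosed.of_exists_root _ fun g hg hirr => ?_
  obtain ⟨f, hfg, hdeg, hf⟩ := Polynomial.lifts_and_degree_eq_and_monic
    (f := S.res) (Polynomial.mem_lifts _ |>.2 (Polynomial.map_surjective _
      IsLocalRing.residue_surjective g)) hg
  obtain ⟨s, hs⟩ := S.exists_eq_prod_roots hf
  have hpos : 0 < g.degree := Polynomial.degree_pos_of_irreducible hirr
  obtain ⟨a, ha⟩ : ∃ a, a ∈ s := Multiset.exists_mem_of_ne_zero fun h0 => by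
    rw [hs, h0, Multiset.map_zero, Multiset.prod_zero] at hfg
    rw [← hfg, Polynomial.map_one, degree_one] at hpos
    exact lt_irrefl _ hpos
  refine ⟨S.res a, ?_⟩
  rw [← hfg, eval_map, eval₂_hom, hs, eval_multiset_prod, map_multiset_prod]
  refine Multiset.prod_eq_zero ?_
  simp only [Multiset.map_map, Multiset.mem_map]
  exact ⟨a, ha, by simp⟩

/-- Idempotents of the group algebra lift to the valuation ring. -/
theorem Above.exists_lift_idem {G : Type*} [Group G] [Fintype G] {ε : MonoidAlgebra S.K G}
    (hε : ε * ε = ε) :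
    ∃ E : MonoidAlgebra S.V G, E * E = E ∧ mapRingHom G S.res E = ε := by
  classical
  haveI : Module.Finite S.V (MonoidAlgebra S.V G) :=
    Module.Finite.of_basis (MonoidAlgebra.basis G S.V)
  choose c hc using fun g => IsLocalRing.residue_surjective (R := S.V) (ε.coeff g)
  set x : MonoidAlgebra S.V G := ofFun c with hx0
  have hx : mapRingHom G S.res x = ε := MonoidAlgebra.ext (Finsupp.ext fun g => by
    rw [coeff_mapRingHom, hx0, coeff_ofFun]; exact hc g)
  obtain ⟨f, hf, hfx⟩ := IsIntegral.of_finite S.V x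
  obtain ⟨s, rfl⟩ := S.exists_eq_prod_roots hf
  set s0 := s.filter fun a => S.res a = 0
  set s1 := s.filter fun a => ¬ S.res a = 0
  set g0 := (s0.map fun a => X - C a).prod
  set g1 := (s1.map fun a => X - C a).prod
  have hg : g0 * g1 = (s.map fun a => X - C a).prod := by
    rw [← Multiset.prod_add, ← Multiset.map_add, Multiset.filter_add_not]
  have hcop : IsCoprime g0 g1 := by
    refine BlockStar.isCoprime_multiset_prod fun a ha =>
      (BlockStar.isCoprime_multiset_prod fun b hb => ?_).symm
    obtain ⟨a, ha', rfl⟩ := Multiset.mem_map.1 ha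
    obtain ⟨b, hb', rfl⟩ := Multiset.mem_map.1 hb
    refine (isCoprime_X_sub_C_of_isUnit_sub ?_).symm
    rw [← IsLocalRing.residue_ne_zero_iff_isUnit]
    show S.res (a - b) ≠ 0
    rw [map_sub, (Multiset.mem_filter.1 ha').2, zero_sub, neg_ne_zero]
    exact (Multiset.mem_filter.1 hb').2
  obtain ⟨u, v, huv⟩ := hcop
  set T : S.V[X] →ₐ[S.V] MonoidAlgebra S.V G := aeval x with hT
  have hT0 : T (g0 * g1) = 0 := by rw [hg]; exact hfx
  refine ⟨T (u * g0), ?_, ?_⟩
  · rw [← map_mul, show u * g0 * (u * g0) = u * g0 - u * v * (g0 * g1) by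
      linear_combination (u * g0) * huv, map_sub, map_mul T (u * v), hT0, mul_zero, sub_zero]
  set φ := mapRingHom G S.res
  have hev : ∀ q : S.V[X],
      φ (T q) = S.res (q.eval 0) • (1 - ε) + S.res (q.eval 1) • ε := by
    intro q
    have hpow : ∀ n : ℕ, ε ^ (n + 1) = ε := fun n => by
      induction n with
      | zero => simp
      | succ n ih => rw [pow_succ, ih, hε]
    induction q using Polynomial.induction_on' with
    | add q q' h1 h2 =>
      rw [map_add, map_add, h1, h2, eval_add, eval_add, map_add, map_add, add_smul, add_smul]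
      abel
    | monomial n a =>
      simp only [hT, aeval_monomial, map_mul, map_pow, φ, hx, MonoidAlgebra.coe_algebraMap,
        Function.comp_apply, mapRingHom_single, Algebra.algebraMap_self, RingHom.id_apply,
        eval_monomial]
      rw [show single (1 : G) (S.res a) = algebraMap S.K (MonoidAlgebra S.K G) (S.res a)
        from rfl, ← Algebra.smul_def]
      rcases n with _ | n
      · simp [sub_eq_add_neg, add_assoc]
      · simp [hpow, zero_pow]
  have hcom : ε * (1 - ε) = 0 := by rw [mul_sub, mul_one, hε, sub_self]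
  have hfε : S.res ((g0 * g1).eval 0) • (1 - ε) + S.res ((g0 * g1).eval 1) • ε = 0 := by
    rw [← hev, hT0, map_zero]
  have hA : S.res ((g0 * g1).eval 0) • (1 - ε) = 0 := by
    have := congrArg (fun y => y * (1 - ε)) hfε
    simpa [add_mul, smul_mul_assoc, hcom, sub_mul, mul_sub, hε] using this
  have hB : S.res ((g0 * g1).eval 1) • ε = 0 := by rw [hA, zero_add] at hfε; exact hfε
  have h1 : ∀ c : S.V, S.res (u.eval c) * S.res (g0.eval c) +
      S.res (v.eval c) * S.res (g1.eval c) = 1 := fun c => by
    rw [← map_mul, ← map_mul, ← map_add, ← eval_mul, ← eval_mul, ← eval_add, huv, eval_one,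
      map_one]
  rw [hev, eval_mul, eval_mul, map_mul, map_mul]
  have h00 : S.res (g0.eval 0) = 0 ∨ (1 - ε) = 0 := by
    by_cases h : S.res (g0.eval 0) = 0
    · exact Or.inl h
    · refine Or.inr ((smul_eq_zero.1 hA).resolve_left ?_)
      rw [eval_mul, map_mul]
      refine mul_ne_zero h ?_
      rw [eval_multiset_prod, map_multiset_prod]
      refine Multiset.prod_ne_zero fun hmem => ?_
      simp only [Multiset.map_map, Multiset.mem_map, Function.comp_apply, eval_sub, eval_X,
        eval_C, zero_sub, map_neg, neg_eq_zero] at hmem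
      obtain ⟨a, ha, ha0⟩ := hmem
      exact (Multiset.mem_filter.1 ha).2 ha0
  have h10 : S.res (g1.eval 1) = 0 ∨ ε = 0 := by
    by_cases h : S.res (g1.eval 1) = 0
    · exact Or.inl h
    · refine Or.inr ((smul_eq_zero.1 hB).resolve_left ?_)
      rw [eval_mul, map_mul]
      refine mul_ne_zero ?_ h
      rw [eval_multiset_prod, map_multiset_prod]
      refine Multiset.prod_ne_zero fun hmem => ?_
      simp only [Multiset.map_map, Multiset.mem_map, Function.comp_apply, eval_sub, eval_X,
        eval_C, map_sub, map_one] at hmem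
      obtain ⟨a, ha, ha0⟩ := hmem
      rw [(Multiset.mem_filter.1 ha).2, sub_zero] at ha0
      exact one_ne_zero ha0
  have e0 : (S.res (u.eval 0) * S.res (g0.eval 0)) • (1 - ε) = 0 := by
    rcases h00 with h | h <;> rw [h] <;> simp
  rw [e0, zero_add]
  rcases h10 with h | h
  · have := h1 1
    rw [h, mul_zero, add_zero] at this
    rw [this, one_smul]
  · rw [h, smul_zero]

section Span

variable {d : ℕ}

/-- A finite spanning set of `ℂ ^ d` lies in the lattice of a basis inside its span. -/
theorem exists_basis_of_span {ι : Type*} [Fintype ι] (s : ι → Fin d → ℂ)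
    (hs : ⊤ ≤ Submodule.span ℂ (Set.range s)) :
    ∃ (b : Module.Basis (Fin d) ℂ (Fin d → ℂ)) (C : Fin d → ι → S.V),
      (∀ i, b i = ∑ x, (C i x : ℂ) • s x) ∧ ∀ x i, b.repr (s x) i ∈ S.V := by
  classical
  set L : Submodule S.V (Fin d → ℂ) := Submodule.span S.V (Set.range s) with hL
  haveI : Module.Finite S.V L := Module.Finite.iff_fg.2 (Submodule.fg_span (Set.finite_range _))
  haveI : Module.Flat S.V L := by
    rw [Module.Flat.flat_iff_torsion_eq_bot_of_isBezout, eq_bot_iff]
    intro x hx
    obtain ⟨⟨a, ha⟩, hax⟩ := hx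
    rw [Submodule.mem_bot]
    have h1 : (a : ℂ) • (x : Fin d → ℂ) = 0 := congrArg Subtype.val hax
    have ha0 : (a : ℂ) ≠ 0 := fun h =>
      (nonZeroDivisors.ne_zero ha) (Subtype.ext h)
    exact Subtype.ext ((smul_eq_zero.1 h1).resolve_left ha0)
  haveI : Module.Free S.V L := Module.free_of_flat_of_isLocalRing
  let e := Module.Free.chooseBasis S.V L
  haveI : Fintype (Module.Free.ChooseBasisIndex S.V L) := Fintype.ofFinite _
  set w : Module.Free.ChooseBasisIndex S.V L → (Fin d → ℂ) := fun i => (e i : Fin d → ℂ) with hw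
  have hli : LinearIndependent ℂ w :=
    (LinearIndependent.iff_fractionRing S.V ℂ).1
      (e.linearIndependent.map' L.subtype (Submodule.ker_subtype L))
  have hmem : ∀ x ∈ L, ∃ c : Module.Free.ChooseBasisIndex S.V L → S.V,
      ∑ i, (c i : ℂ) • w i = x := by
    intro x hx
    refine ⟨fun i => e.repr ⟨x, hx⟩ i, ?_⟩
    refine Eq.trans ?_ (congrArg Subtype.val (e.sum_repr ⟨x, hx⟩))
    rw [Submodule.coe_sum]
    exact Finset.sum_congr rfl fun i _ => rfl
  have hspan : ⊤ ≤ Submodule.span ℂ (Set.range w) := by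
    refine hs.trans (Submodule.span_le.2 ?_)
    rintro _ ⟨i, rfl⟩
    obtain ⟨c, hc⟩ := hmem _ (Submodule.subset_span ⟨i, rfl⟩)
    rw [← hc]
    exact Submodule.sum_mem _ fun j _ => Submodule.smul_mem _ _ (Submodule.subset_span ⟨j, rfl⟩)
  let b0 := Module.Basis.mk hli hspan
  have hcard : Fintype.card (Module.Free.ChooseBasisIndex S.V L) = d := by
    rw [← Module.finrank_eq_card_basis b0, Module.finrank_fin_fun]
  let f := Fintype.equivFinOfCardEq hcard
  have hgen : ∀ i, ∃ c : ι → S.V, ∑ x, (c x : ℂ) • s x = w i := fun i => by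
    obtain ⟨c, hc⟩ := (Submodule.mem_span_range_iff_exists_fun S.V).1 (e i).2
    exact ⟨c, hc⟩
  choose Cg hCg using hgen
  refine ⟨b0.reindex f, fun i => Cg (f.symm i), fun i => ?_, fun x i => ?_⟩
  · rw [Module.Basis.reindex_apply, show b0 (f.symm i) = w (f.symm i) from
      Module.Basis.mk_apply hli hspan _]
    exact (hCg _).symm
  · obtain ⟨c, hc⟩ := hmem _ (Submodule.subset_span ⟨x, rfl⟩)
    have hb0 : ∀ i, w i = b0 i := fun i => (Module.Basis.mk_apply hli hspan i).symm
    simp only [hb0] at hc
    rw [Module.Basis.repr_reindex_apply, ← hc, b0.repr_sum_self]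
    exact (c (f.symm i)).2

end Span

variable {G : Type*} [Group G] [Fintype G]

/-- A representation over the valuation ring with scalar commutant and local reduced commutant. -/
structure LocalRep (χ : IrrCharacter G) where
  /-- the degree -/
  N : ℕ
  /-- the representation -/
  ρ : G →* Matrix (Fin N) (Fin N) S.V
  trace_eq : ∀ g, (((ρ g).trace : S.V) : ℂ) = (χ : G → ℂ) g
  scalar : ∀ f : Matrix (Fin N) (Fin N) S.V, (∀ g, Commute f (ρ g)) → ∃ c : S.V, f = c • 1
  isLocal : ∀ f : Matrix (Fin N) (Fin N) S.K, (∀ g, Commute f ((ρ g).map S.res)) →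
    ∃ c : S.K, IsNilpotent (f - c • 1)

theorem exists_localRep (χ : IrrCharacter G) : Nonempty (LocalRep S χ) := by
  classical
  obtain ⟨d, ρ, hirr, hchar⟩ := χ.2
  obtain ⟨b0, hb0⟩ := BrauerCharacters.Reduction.exists_stable_basis ρ S.V
  have hd : 0 < d := by
    by_contra h
    obtain rfl : d = 0 := by omega
    apply CharTheory.apply_one_ne_zero_of_isIrr χ.2
    rw [← hchar, Representation.character, map_one, LinearMap.trace_one, Module.finrank_fin_fun,
      Nat.cast_zero]
  -- representation of the group algebra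
  let Φ : MonoidAlgebra S.V G →+* Module.End ℂ (Fin d → ℂ) :=
    (ρ.asAlgebraHom.toRingHom).comp (mapRingHom G S.V.subtype)
  have hΦs : ∀ g (c : S.V), Φ (single g c) = (c : ℂ) • ρ g := fun g c => by
    show ρ.asAlgebraHom (mapRingHom G S.V.subtype (single g c)) = _
    rw [mapRingHom_single, Representation.asAlgebraHom_single]
    rfl
  have hΦsum : ∀ z : MonoidAlgebra S.V G, ∀ w, Φ z w = ∑ g, (z.coeff g : ℂ) • ρ g w :=
    fun z w => by
    induction z using MonoidAlgebra.induction_linear with
    | zero => simp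
    | add x y hx hy => simp [hx, hy, Finset.sum_add_distrib, add_smul]
    | single g c => simp [hΦs, Finsupp.single_apply, ite_smul, apply_ite]
  -- a primitive idempotent not acting as zero
  obtain ⟨i, hi, E, hEE, hEi, v0, hv0L, hv0⟩ : ∃ i : MonoidAlgebra S.K G,
      BlockStar.IsPrimIdem (⊥ : Subgroup G) i ∧ ∃ E : MonoidAlgebra S.V G, E * E = E ∧
        mapRingHom G S.res E = i ∧ ∃ v0 : Fin d → ℂ, (∀ j, b0.repr v0 j ∈ S.V) ∧ Φ E v0 ≠ 0 := by
    by_contra hcon
    push Not at hcon
    -- every idempotent lift would act as zero on the reduction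
    have hzero : ∀ (ε : MonoidAlgebra S.K G), ε ∈ BrauerPairs.fixedBy S.K (⊥ : Subgroup G) →
        ε * ε = ε → ∀ z : MonoidAlgebra S.V G, mapRingHom G S.res z = ε →
        ∀ v : Fin d → ℂ, (∀ j, b0.repr v j ∈ S.V) → ∀ j, ∃ h : b0.repr (Φ z v) j ∈ S.V,
          S.res ⟨_, h⟩ = 0 := by
      intro ε hε hεε
      refine BlockStar.idem_induction (P := fun ε => ∀ z : MonoidAlgebra S.V G,
        mapRingHom G S.res z = ε → ∀ v : Fin d → ℂ, (∀ j, b0.repr v j ∈ S.V) → ∀ j,
          ∃ h : b0.repr (Φ z v) j ∈ S.V, S.res ⟨_, h⟩ = 0) (⊥ : Subgroup G) ?_ ?_ ?_ hε hεε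
      · intro z hz v hv j
        have hval : b0.repr (Φ z v) j =
            ((∑ g, z.coeff g * ∑ k, ⟨b0.repr (ρ g (b0 k)) j, hb0 g j k⟩ * ⟨b0.repr v k, hv k⟩ :
              S.V) : ℂ) := by
          rw [hΦsum]
          push_cast
          simp only [map_sum, map_smul, Finsupp.coe_finsetSum, Finset.sum_apply,
            Finsupp.smul_apply, smul_eq_mul]
          refine Finset.sum_congr rfl fun g _ => congrArg _ ?_
          conv_lhs => rw [← b0.sum_repr v]
          simp only [map_sum, map_smul, Finsupp.coe_finsetSum, Finset.sum_apply,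
            Finsupp.smul_apply, smul_eq_mul]
          exact Finset.sum_congr rfl fun k _ => mul_comm _ _
        refine ⟨hval ▸ SetLike.coe_mem _, ?_⟩
        rw [show (⟨b0.repr (Φ z v) j, hval ▸ SetLike.coe_mem _⟩ : S.V) = _ from
          Subtype.ext hval, map_sum]
        refine Finset.sum_eq_zero fun g _ => ?_
        rw [map_mul, ← coeff_mapRingHom, hz]
        simp
      · intro i hi z hz v hv j
        obtain ⟨E, hE, hEi⟩ := S.exists_lift_idem hi.2.1
        have h0 : Φ E v = 0 := hcon i hi E hE hEi v hv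
        have hsplit : Φ z v = Φ (z - E) v := by
          rw [map_sub, LinearMap.sub_apply, h0, sub_zero]
        obtain ⟨h, hh⟩ : ∃ h : b0.repr (Φ (z - E) v) j ∈ S.V, S.res ⟨_, h⟩ = 0 := by
          have hz0 : mapRingHom G S.res (z - E) = 0 := by rw [map_sub, hz, hEi, sub_self]
          generalize z - E = z at hz0
          have hval : b0.repr (Φ z v) j =
              ((∑ g, z.coeff g * ∑ k, ⟨b0.repr (ρ g (b0 k)) j, hb0 g j k⟩ *
                ⟨b0.repr v k, hv k⟩ : S.V) : ℂ) := by
            rw [hΦsum]
            push_cast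
            simp only [map_sum, map_smul, Finsupp.coe_finsetSum, Finset.sum_apply,
              Finsupp.smul_apply, smul_eq_mul]
            refine Finset.sum_congr rfl fun g _ => congrArg _ ?_
            conv_lhs => rw [← b0.sum_repr v]
            simp only [map_sum, map_smul, Finsupp.coe_finsetSum, Finset.sum_apply,
              Finsupp.smul_apply, smul_eq_mul]
            exact Finset.sum_congr rfl fun k _ => mul_comm _ _
          refine ⟨hval ▸ SetLike.coe_mem _, ?_⟩
          rw [show (⟨b0.repr (Φ z v) j, hval ▸ SetLike.coe_mem _⟩ : S.V) = _ from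
            Subtype.ext hval, map_sum]
          refine Finset.sum_eq_zero fun g _ => ?_
          rw [map_mul, ← coeff_mapRingHom, hz0]
          simp
        simp only [hsplit]
        exact ⟨h, hh⟩
      · intro ε ε' _ _ _ _ _ _ he he' z hz v hv j
        obtain ⟨y, hy⟩ : ∃ y : MonoidAlgebra S.V G, mapRingHom G S.res y = ε := by
          choose c hc using fun g => IsLocalRing.residue_surjective (R := S.V) (ε.coeff g)
          exact ⟨ofFun c, MonoidAlgebra.ext (Finsupp.ext fun g => by
            rw [coeff_mapRingHom, coeff_ofFun]; exact hc g)⟩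
        obtain ⟨h1, h1'⟩ := he y hy v hv j
        obtain ⟨h2, h2'⟩ := he' (z - y) (by rw [map_sub, hz, hy, add_sub_cancel_left]) v hv j
        have hsum : b0.repr (Φ z v) j = b0.repr (Φ y v) j + b0.repr (Φ (z - y) v) j := by
          rw [map_sub, LinearMap.sub_apply, map_sub, Finsupp.sub_apply, add_sub_cancel]
        refine ⟨hsum ▸ add_mem h1 h2, ?_⟩
        rw [show (⟨b0.repr (Φ z v) j, hsum ▸ add_mem h1 h2⟩ : S.V) = ⟨_, h1⟩ + ⟨_, h2⟩ from
          Subtype.ext hsum, map_add, h1', h2', add_zero]
    obtain ⟨h, hh⟩ := hzero 1 (one_mem _) (one_mul _) 1 (map_one _) (b0 ⟨0, hd⟩)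
      (fun j => by rw [b0.repr_self, Finsupp.single_apply]; split_ifs <;> [exact one_mem _; exact zero_mem _])
      ⟨0, hd⟩
    have h1 : (⟨_, h⟩ : S.V) = 1 := Subtype.ext (by
      simp [map_one, Finsupp.single_eq_same])
    rw [h1, map_one] at hh
    exact one_ne_zero hh
  -- the lattice generated by the translates
  set w : Fin d → ℂ := Φ E v0 with hw
  have hEw : Φ E w = w := by rw [hw, ← Module.End.mul_apply, ← map_mul, hEE]
  have hirr' : ∀ W₁ : Submodule ℂ (Fin d → ℂ), (∀ g, ∀ z ∈ W₁, ρ g z ∈ W₁) → W₁ = ⊥ ∨ W₁ = ⊤ :=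
    fun W₁ hW₁ => by
      rcases IsSimpleOrder.eq_bot_or_eq_top (α := Subrepresentation ρ)
        ⟨W₁, fun g z hz => hW₁ g z hz⟩ with h | h
      · exact Or.inl (congrArg Subrepresentation.toSubmodule h)
      · exact Or.inr (congrArg Subrepresentation.toSubmodule h)
  have hspanw : ⊤ ≤ Submodule.span ℂ (Set.range fun g => ρ g w) := by
    rcases hirr' (Submodule.span ℂ (Set.range fun g => ρ g w)) (fun h z hz => by
      induction hz using Submodule.span_induction with
      | mem y hy =>
        obtain ⟨g, rfl⟩ := hy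
        refine Submodule.subset_span ⟨h * g, ?_⟩
        simp [map_mul]
      | zero => rw [map_zero]; exact Submodule.zero_mem _
      | add y z _ _ hy hz => rw [map_add]; exact Submodule.add_mem _ hy hz
      | smul a y _ hy => rw [map_smul]; exact Submodule.smul_mem _ _ hy) with h | h
    · exact absurd ((Submodule.eq_bot_iff _).1 h w (Submodule.subset_span ⟨1, by simp⟩)) hv0
    · exact h.ge
  obtain ⟨b, C, hbC, hbmem⟩ := exists_basis_of_span S (fun g => ρ g w) hspanw
  -- the matrices
  have hint : ∀ g i j, b.repr (ρ g (b j)) i ∈ S.V := fun g i j => by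
    rw [hbC, map_sum, map_sum, Finsupp.coe_finsetSum, Finset.sum_apply]
    refine sum_mem fun h _ => ?_
    rw [map_smul, map_smul, Finsupp.smul_apply, smul_eq_mul,
      show ρ g (ρ h w) = ρ (g * h) w by rw [map_mul]; rfl]
    exact mul_mem (SetLike.coe_mem _) (hbmem _ _)
  let ρ' : G →* Matrix (Fin d) (Fin d) S.V :=
    { toFun := fun g i j => ⟨b.repr (ρ g (b j)) i, hint g i j⟩
      map_one' := by
        ext i j
        simp [Matrix.one_apply, Finsupp.single_apply, eq_comm, apply_ite Subtype.val]
      map_mul' := fun g h => by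
        ext i j
        show b.repr (ρ (g * h) (b j)) i =
          ((∑ k, (⟨b.repr (ρ g (b k)) i, hint g i k⟩ : S.V) *
            ⟨b.repr (ρ h (b j)) k, hint h k j⟩ : S.V) : ℂ)
        push_cast
        show b.repr (ρ (g * h) (b j)) i = _
        rw [map_mul, Module.End.mul_apply]
        conv_lhs => rw [← b.sum_repr (ρ h (b j))]
        simp only [map_sum, map_smul, Finsupp.coe_finsetSum, Finset.sum_apply, Finsupp.smul_apply,
          smul_eq_mul]
        exact Finset.sum_congr rfl fun k _ => mul_comm _ _ }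
  have hmat : ∀ g, (ρ' g).map S.V.subtype = LinearMap.toMatrix b b (ρ g) := fun g => by
    ext i j; rw [LinearMap.toMatrix_apply]; rfl
  refine ⟨⟨d, ρ', fun g => ?_, fun f hf => ?_, ?_⟩⟩
  · rw [← hchar, Representation.character, LinearMap.trace_eq_matrix_trace ℂ b, ← hmat]
    simp [Matrix.trace]
  · haveI : Nonempty (Fin d) := ⟨⟨0, hd⟩⟩
    set T : Module.End ℂ (Fin d → ℂ) := Matrix.toLin b b (f.map S.V.subtype) with hTdef
    have hcomm : ∀ g, Commute (ρ g) T := fun g => by
      apply (LinearMap.toMatrix b b).injective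
      rw [LinearMap.toMatrix_mul, LinearMap.toMatrix_mul, hTdef, LinearMap.toMatrix_toLin, ← hmat,
        ← Matrix.map_mul, ← Matrix.map_mul, (hf g).eq]
    obtain ⟨c, hc⟩ := DefectOne.eq_smul_one_of_commute (fun g => ρ g) hirr' hcomm
    have hcm : f.map S.V.subtype = c • 1 := by
      rw [← LinearMap.toMatrix_toLin b b (f.map S.V.subtype), ← hTdef, hc, map_smul,
        LinearMap.toMatrix_one]
    have hcV : c ∈ S.V := by
      have h := congrFun (congrFun hcm ⟨0, hd⟩) ⟨0, hd⟩
      rw [Matrix.map_apply, Matrix.smul_apply, Matrix.one_apply_eq, smul_eq_mul, mul_one] at h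
      exact h ▸ SetLike.coe_mem _
    refine ⟨⟨c, hcV⟩, Matrix.ext fun i j => Subtype.ext ?_⟩
    have h := congrFun (congrFun hcm i) j
    rw [Matrix.map_apply, Matrix.smul_apply, smul_eq_mul] at h
    rw [Matrix.smul_apply, smul_eq_mul]
    push_cast
    refine h.trans (congrArg _ ?_)
    by_cases hij : i = j <;> simp [Matrix.one_apply, hij]
  · intro f hf
    -- coordinates of the generator
    let vb : Fin d → S.V := fun i => ⟨b.repr w i, by
      have := hbmem 1 i; simpa using this⟩
    set vk : Fin d → S.K := fun i => S.res (vb i) with hvk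
    let R : MonoidAlgebra S.K G →ₐ[S.K] Matrix (Fin d) (Fin d) S.K :=
      MonoidAlgebra.lift S.K (Matrix (Fin d) (Fin d) S.K) G (S.res.mapMatrix.toMonoidHom.comp ρ')
    have hR : ∀ g, R (single g 1) = (ρ' g).map S.res := fun g => by
      simp [R]
    have hcoord : ∀ g, ((ρ' g) *ᵥ vb) = fun i => (⟨b.repr (ρ g w) i, hbmem g i⟩ : S.V) :=
        fun g => funext fun i => Subtype.ext (by
      rw [Matrix.mulVec, dotProduct]
      push_cast
      conv_rhs => rw [← b.sum_repr w]
      simp only [map_sum, map_smul, Finsupp.coe_finsetSum, Finset.sum_apply, Finsupp.smul_apply,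
        smul_eq_mul]
      exact Finset.sum_congr rfl fun k _ => mul_comm _ _)
    have hred : ∀ g, R (single g 1) *ᵥ vk = fun i => S.res ⟨b.repr (ρ g w) i, hbmem g i⟩ :=
        fun g => funext fun i => by
      rw [hR, hvk, show (fun i => S.res (vb i)) = S.res ∘ vb from rfl,
        ← RingHom.map_mulVec, hcoord]
    have hgenK : ∀ y : Fin d → S.K, ∃ x : MonoidAlgebra S.K G, R x *ᵥ vk = y := by
      intro y
      refine ⟨∑ g, single g (∑ i, y i * S.res (C i g)), ?_⟩
      rw [map_sum, Matrix.sum_mulVec]
      funext k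
      rw [Finset.sum_apply]
      have hterm : ∀ g, (R (single g (∑ i, y i * S.res (C i g))) *ᵥ vk) k =
          (∑ i, y i * S.res (C i g)) * S.res ⟨b.repr (ρ g w) k, hbmem g k⟩ := fun g => by
        rw [show single g (∑ i, y i * S.res (C i g)) =
          (∑ i, y i * S.res (C i g)) • single g (1 : S.K) by rw [smul_single', mul_one], map_smul,
          Matrix.smul_mulVec, Pi.smul_apply, hred, smul_eq_mul]
      rw [Finset.sum_congr rfl fun g _ => hterm g]
      simp only [Finset.sum_mul, mul_assoc, ← map_mul]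
      rw [Finset.sum_comm]
      simp only [← Finset.mul_sum, ← map_sum]
      have hδ : ∀ i, (∑ g, C i g * ⟨b.repr (ρ g w) k, hbmem g k⟩ : S.V) =
          if i = k then 1 else 0 := fun i => Subtype.ext (by
        push_cast
        rw [show (((if i = k then 1 else 0 : S.V)) : ℂ) = b.repr (b i) k by
          rw [b.repr_self, Finsupp.single_apply]; split_ifs <;> rfl, hbC, map_sum,
          Finsupp.coe_finsetSum, Finset.sum_apply]
        exact Finset.sum_congr rfl fun g _ => by
          rw [map_smul, Finsupp.smul_apply, smul_eq_mul])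
      simp [hδ, apply_ite]
    have hiv : R i *ᵥ vk = vk := by
      have h1 : ∑ g, (E.coeff g : ℂ) • ρ g w = w := by rw [← hΦsum]; exact hEw
      rw [← hEi, ← MonoidAlgebra.sum_coeff_single E]
      simp only [Finsupp.sum_fintype, single_zero, implies_true]
      rw [map_sum, map_sum, Matrix.sum_mulVec]
      funext k
      rw [Finset.sum_apply]
      have hterm : ∀ g, (R (mapRingHom G S.res (single g (E.coeff g))) *ᵥ vk) k =
          S.res (E.coeff g * ⟨b.repr (ρ g w) k, hbmem g k⟩) := fun g => by
        rw [mapRingHom_single, show single g (S.res (E.coeff g)) =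
          S.res (E.coeff g) • single g (1 : S.K) by rw [smul_single', mul_one], map_smul,
          Matrix.smul_mulVec, Pi.smul_apply, hred, smul_eq_mul, map_mul]
      rw [Finset.sum_congr rfl fun g _ => hterm g, ← map_sum]
      refine congrArg S.res (Subtype.ext ?_)
      push_cast
      show ∑ g, (E.coeff g : ℂ) * b.repr (ρ g w) k = b.repr w k
      conv_rhs => rw [← h1]
      simp only [map_sum, map_smul, Finsupp.coe_finsetSum, Finset.sum_apply, Finsupp.smul_apply,
        smul_eq_mul]
    obtain ⟨x, hx⟩ := hgenK (f *ᵥ vk)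
    have hfR : ∀ z, f * R z = R z * f := fun z => by
      induction z using MonoidAlgebra.induction_linear with
      | zero => simp
      | add a c ha hc => rw [map_add, mul_add, add_mul, ha, hc]
      | single g c =>
        rw [show single g c = c • single g (1 : S.K) by rw [smul_single', mul_one], map_smul,
          mul_smul_comm, smul_mul_assoc, hR, (hf g).eq]
    have hix : R (i * x * i) *ᵥ vk = f *ᵥ vk := by
      rw [map_mul, ← Matrix.mulVec_mulVec, hiv, map_mul, ← Matrix.mulVec_mulVec, hx,
        Matrix.mulVec_mulVec, ← hfR, ← Matrix.mulVec_mulVec, hiv]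
    obtain ⟨c, k, hk⟩ := BlockStar.exists_scalar hi
      (w := i * x * i) (mul_mem (mul_mem hi.1 (fun g hg => by
        rw [Subgroup.mem_bot] at hg; subst hg; exact BrauerPairs.conjA_one x)) hi.1)
      (by rw [← mul_assoc, ← mul_assoc, hi.2.1]) (by rw [mul_assoc, hi.2.1])
    refine ⟨c, k, ?_⟩
    have hpow : ∀ j, (f - c • 1) ^ j *ᵥ vk = R ((i * x * i - c • i) ^ j) *ᵥ vk := by
      intro j
      induction j with
      | zero => simp
      | succ j ih =>
        have hfc : Commute (R ((i * x * i - c • i) ^ j)) (f - c • 1) :=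
          (show Commute _ f from (hfR _).symm).sub_right
            ((Commute.one_right _).smul_right c)
        rw [pow_succ', ← Matrix.mulVec_mulVec, ih, Matrix.mulVec_mulVec, ← hfc.eq,
          ← Matrix.mulVec_mulVec, pow_succ, map_mul, ← Matrix.mulVec_mulVec]
        congr 1
        rw [map_sub, map_smul, Matrix.sub_mulVec, Matrix.sub_mulVec, hix, Matrix.smul_mulVec,
          Matrix.smul_mulVec, hiv, Matrix.one_mulVec]
    have h0 : (f - c • 1) ^ k *ᵥ vk = 0 := by rw [hpow, hk, map_zero, Matrix.zero_mulVec]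
    have hfz : ∀ z, Commute ((f - c • 1) ^ k) (R z) := fun z =>
      ((show Commute f (R z) from hfR z).sub_left ((Commute.one_left _).smul_left c)).pow_left k
    refine Matrix.ext_iff_mulVec.2 fun y => ?_
    obtain ⟨z, rfl⟩ := hgenK y
    rw [Matrix.mulVec_mulVec, (hfz z).eq, ← Matrix.mulVec_mulVec, h0, Matrix.mulVec_zero,
      Matrix.zero_mulVec]

end CfsgLib.Jordan.CyclicDefect
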