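import Cfsg.Agent.Lib.Jordan.CyclicDefect.Family
import Cfsg.Agent.Lib.Jordan.CyclicDefect.Valued
import Cfsg.Agent.Lib.Brauer.Monomial
import Cfsg.Agent.Lib.BrauerPairs.GenRegular
import Cfsg.Agent.Lib.BrauerCharacters.BlockOneSimple

/-!
# The reduction of a member of a nilpotent block with abelian defect group is irreducible

Its reduced representation has one composition type, whose multiplicity divides the ranks of all
idempotents; by Brauer induction the multiplicity divides the inner product of the character with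
the sum of the family, which is one.
-/

set_option autoImplicit false
set_option linter.style.haveILetI false
set_option linter.unusedSectionVars false

noncomputable section

namespace CfsgLib.Jordan.CyclicDefect

open Cfsg CfsgLib.Blocks MonoidAlgebra CfsgLib.BrauerPairs CfsgLib.BlockStar Module
open scoped ComplexConjugate Matrix

section Ranks

variable {K : Type*} [Field K] {A : Type*} [Ring A] [Algebra K A] {A' : Type*} [Ring A']
variable {X : Type*} [AddCommGroup X] [Module K X] [FiniteDimensional K X]

/-- Modulo a nilpotent kernel a factorisation bounds the ranks of idempotents. -/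
theorem finrank_range_le_of_factor (π : A →+* A') (hker : ∀ z, π z = 0 → IsNilpotent z)
    (φ : A →ₐ[K] Module.End K X) {ε f a c : A} (hε : ε * ε = ε) (h : π ε = π (a * f * c)) :
    finrank K (LinearMap.range (φ ε)) ≤ finrank K (LinearMap.range (φ f)) := by
  set y := ε * (a * f * c) * ε with hy
  set z := ε - y with hz
  have hπz : π z = 0 := by
    rw [hz, hy, map_sub, map_mul, map_mul, ← h, ← map_mul, hε, ← map_mul, hε, sub_self]
  obtain ⟨k, hk⟩ := hker z hπz
  have hεz : ε * z = z := by
    rw [hz, hy, mul_sub, hε]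
    simp only [← mul_assoc, hε]
  set w := ∑ i ∈ Finset.range k, z ^ i with hw
  have hyw : y * w = ε := by
    have h1 : (1 - z) * w = 1 := by rw [hw, mul_neg_geom_sum, hk, sub_zero]
    calc y * w = ε * (1 - z) * w := by rw [mul_sub, mul_one, hεz, hz, sub_sub_cancel]
      _ = ε := by rw [mul_assoc, h1, mul_one]
  have hdec : ε = (ε * a) * f * (c * ε * w) := by
    conv_lhs => rw [← hyw, hy]
    simp only [mul_assoc]
  have h2 : LinearMap.range (φ ε) ≤ (LinearMap.range (φ f)).map (φ (ε * a)) := by
    rintro _ ⟨v, rfl⟩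
    refine ⟨φ f (φ (c * ε * w) v), ⟨_, rfl⟩, ?_⟩
    conv_rhs => rw [hdec, map_mul, map_mul]
    rfl
  exact (Submodule.finrank_mono h2).trans (Submodule.finrank_map_le _ _)

/-- Over a matrix algebra modulo a nilpotent kernel all ranks are multiples of one of them. -/
theorem exists_rank_multiple {s : ℕ} (π : A →ₐ[K] Matrix (Fin s) (Fin s) K)
    (hπ : Function.Surjective π) (hker : ∀ z, π z = 0 → IsNilpotent z)
    (φ : A →ₐ[K] Module.End K X) :
    ∃ m : ℕ, finrank K X = s * m ∧
      ∀ ε : A, ε * ε = ε → m ∣ finrank K (LinearMap.range (φ ε)) := by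
  classical
  rcases Nat.eq_zero_or_pos s with rfl | hs
  · have h1 : IsNilpotent (1 : A) := hker 1 (Subsingleton.elim _ _)
    have h0 : (1 : A) = 0 := by
      obtain ⟨k, hk⟩ := h1
      rwa [one_pow] at hk
    haveI : Subsingleton X := ⟨fun x y => by
      have hz : ∀ x : X, x = 0 := fun x => by
        rw [← show φ 1 x = x by rw [map_one]; rfl, h0, map_zero]; rfl
      rw [hz x, hz y]⟩
    exact ⟨1, by rw [finrank_zero_of_subsingleton, Nat.zero_mul], fun _ _ => one_dvd _⟩
  let E : Fin s → Fin s → Matrix (Fin s) (Fin s) K := fun i j => Matrix.single i j 1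
  have hE : OrthogonalIdempotents fun i => E i i :=
    ⟨fun i => by simp [IsIdempotentElem, E], fun i j h => by
      show Matrix.single i i (1 : K) * Matrix.single j j 1 = 0
      exact Matrix.single_mul_single_of_ne (1 : K) i i j h 1⟩
  obtain ⟨e, he, hπe⟩ := hE.lift_of_isNilpotent_ker (π : A →+* Matrix (Fin s) (Fin s) K)
    (fun z (hz : π z = 0) => hker z hz) fun i => hπ _
  have hπe' : ∀ i, π (e i) = E i i := fun i => congrFun hπe i
  have hone : ∑ i, e i = 1 := by
    have h1 : π (1 - ∑ i, e i) = 0 := by
      rw [map_sub, map_one, map_sum, Finset.sum_congr rfl fun i _ => hπe' i,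
        sub_eq_zero]
      ext a c
      simp only [E, Matrix.sum_apply, Matrix.single_apply, Matrix.one_apply]
      by_cases hac : a = c
      · subst hac; simp
      · rw [if_neg hac, Finset.sum_eq_zero fun i _ => if_neg fun h => hac (h.1.symm.trans h.2)]
    have hi := he.isIdempotentElem_sum (s := Finset.univ).one_sub
    exact (sub_eq_zero.1 (IsIdempotentElem.eq_zero_of_isNilpotent hi (hker _ h1))).symm
  let i0 : Fin s := ⟨0, hs⟩
  set m := finrank K (LinearMap.range (φ (e i0))) with hm
  have hsame : ∀ i, finrank K (LinearMap.range (φ (e i))) = m := by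
    intro i
    obtain ⟨x, hx⟩ := hπ (E i i0)
    obtain ⟨y, hy⟩ := hπ (E i0 i)
    refine le_antisymm (finrank_range_le_of_factor π.toRingHom (fun z (hz : π z = 0) => hker z hz) φ
      (he.idem i) (a := x) (c := y) ?_) (finrank_range_le_of_factor π.toRingHom
      (fun z (hz : π z = 0) => hker z hz) φ (he.idem i0) (a := y) (c := x) ?_)
    · show π (e i) = π (x * e i0 * y)
      rw [map_mul, map_mul, hπe', hπe', hx, hy]
      simp [E]
    · show π (e i0) = π (y * e i * x)
      rw [map_mul, map_mul, hπe', hπe', hx, hy]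
      simp [E]
  have hsum : ∀ I : Finset (Fin s),
      finrank K (LinearMap.range (φ (∑ i ∈ I, e i))) = I.card * m := by
    intro I
    induction I using Finset.induction_on with
    | empty => rw [Finset.sum_empty, map_zero, LinearMap.range_zero, finrank_bot, Finset.card_empty,
        zero_mul]
    | insert a I ha ih =>
      rw [Finset.sum_insert ha, Finset.card_insert_of_notMem ha, add_mul, one_mul, ← ih,
        ← hsame a]
      set f := ∑ i ∈ I, e i with hf
      have haf : e a * f = 0 := he.mul_sum_of_notMem ha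
      have hfa : f * e a = 0 := by
        rw [hf, Finset.sum_mul]
        exact Finset.sum_eq_zero fun i hi => he.ortho fun h => ha (h ▸ hi)
      have hfi : f * f = f := he.isIdempotentElem_sum
      have hr : LinearMap.range (φ (e a + f)) =
          LinearMap.range (φ f) ⊔ LinearMap.range (φ (e a)) := by
        refine le_antisymm ?_ (sup_le ?_ ?_)
        · rintro _ ⟨v, rfl⟩
          rw [map_add, LinearMap.add_apply, add_comm]
          exact Submodule.add_mem_sup ⟨v, rfl⟩ ⟨v, rfl⟩
        · rintro _ ⟨v, rfl⟩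
          refine ⟨φ f v, ?_⟩
          rw [← Module.End.mul_apply, ← map_mul, add_mul, haf, zero_add, hfi]
        · rintro _ ⟨v, rfl⟩
          refine ⟨φ (e a) v, ?_⟩
          rw [← Module.End.mul_apply, ← map_mul, add_mul, (he.idem a).eq, hfa, add_zero]
      have hd : LinearMap.range (φ f) ⊓ LinearMap.range (φ (e a)) = ⊥ := by
        rw [Submodule.eq_bot_iff]
        rintro _ ⟨⟨u, rfl⟩, w, hw⟩
        have h1 : φ f (φ f u) = φ f u := by rw [← Module.End.mul_apply, ← map_mul, hfi]
        rw [← h1, ← hw, ← Module.End.mul_apply, ← map_mul, hfa, map_zero, LinearMap.zero_apply]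
      have h := Submodule.finrank_sup_add_finrank_inf_eq
        (LinearMap.range (φ f)) (LinearMap.range (φ (e a)))
      rw [hd, finrank_bot, add_zero] at h
      rw [hr, h]
  refine ⟨m, ?_, fun ε hε => ?_⟩
  · have h := hsum Finset.univ
    rwa [hone, map_one, Finset.card_univ, Fintype.card_fin,
      show LinearMap.range (1 : Module.End K X) = ⊤ from LinearMap.range_id, finrank_top] at h
  -- a factorisation of the image
  set L := Matrix.toLin' (π ε) with hL
  set b := Module.finBasis K (LinearMap.range L)
  set r := finrank K (LinearMap.range L) with hrdef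
  set u : Matrix (Fin s) (Fin r) K :=
    LinearMap.toMatrix' ((LinearMap.range L).subtype.comp b.equivFun.symm.toLinearMap) with hu
  set v : Matrix (Fin r) (Fin s) K :=
    LinearMap.toMatrix' (b.equivFun.toLinearMap.comp L.rangeRestrict) with hv
  have huv : u * v = π ε := by
    rw [hu, hv, ← LinearMap.toMatrix'_comp]
    convert LinearMap.toMatrix'_toLin' (π ε) using 2
    refine LinearMap.ext fun x => ?_
    simp [L]
  have hvu : v * u = 1 := by
    rw [hu, hv, ← LinearMap.toMatrix'_comp]
    convert LinearMap.toMatrix'_id using 2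
    refine LinearMap.ext fun x => ?_
    obtain ⟨y, hy⟩ : ∃ y, L y = (b.equivFun.symm x : Fin s → K) := (b.equivFun.symm x).2
    have hLL : L (L y) = L y := by
      rw [hL, ← LinearMap.comp_apply, ← Matrix.toLin'_mul, ← map_mul, hε]
    have hw : L.rangeRestrict (b.equivFun.symm x : Fin s → K) = b.equivFun.symm x := Subtype.ext (by
      show L (b.equivFun.symm x : Fin s → K) = _
      rw [← hy, hLL])
    simp only [LinearMap.comp_apply, LinearEquiv.coe_coe, Submodule.subtype_apply, hw,
      LinearEquiv.apply_symm_apply, LinearMap.id_apply]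
  have hrs : r ≤ s := (Submodule.finrank_le _).trans_eq (Module.finrank_fin_fun K)
  set ι : Fin r ↪ Fin s := Fin.castLEEmb hrs
  let J : Matrix (Fin s) (Fin r) K := Matrix.of fun i j => if i = ι j then 1 else 0
  have hJJ : Jᵀ * J = 1 := by
    ext i j
    simp [J, Matrix.mul_apply, Matrix.one_apply, ι.injective.eq_iff, eq_comm]
  have hP : π (∑ i ∈ Finset.univ.map ι, e i) = J * Jᵀ := by
    rw [map_sum, Finset.sum_map]
    ext a c
    simp only [hπe', E, Matrix.sum_apply, Matrix.single_apply, J, Matrix.mul_apply,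
      Matrix.transpose_apply, Matrix.of_apply, mul_ite, mul_one, mul_zero]
    refine Finset.sum_congr rfl fun j _ => ?_
    by_cases ha : a = ι j <;> by_cases hc : c = ι j <;> simp [ha, hc, eq_comm]
  set f := ∑ i ∈ Finset.univ.map ι, e i with hf
  have hff : f * f = f := he.isIdempotentElem_sum
  obtain ⟨x, hx⟩ := hπ (u * Jᵀ)
  obtain ⟨y, hy⟩ := hπ (J * v)
  have h1 : π ε = π (x * f * y) := by
    rw [map_mul, map_mul, hx, hy, hP, ← huv]
    calc u * v = u * (Jᵀ * J) * (Jᵀ * J) * v := by rw [hJJ, Matrix.mul_one, Matrix.mul_one]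
      _ = _ := by simp only [Matrix.mul_assoc]
  have h2 : π f = π (y * ε * x) := by
    rw [map_mul, map_mul, hx, hy, hP, ← huv]
    calc J * Jᵀ = J * (v * u) * (v * u) * Jᵀ := by rw [hvu, Matrix.mul_one, Matrix.mul_one]
      _ = _ := by simp only [Matrix.mul_assoc]
  rw [le_antisymm (finrank_range_le_of_factor π.toRingHom (fun z (hz : π z = 0) => hker z hz) φ hε h1)
    (finrank_range_le_of_factor π.toRingHom (fun z (hz : π z = 0) => hker z hz) φ hff h2), hsum,
    Finset.card_map, Finset.card_univ, Fintype.card_fin]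
  exact dvd_mul_left m r

end Ranks

variable {C : Type*} [Group C] [Fintype C] {M : Ideal AlgInt} [M.IsPrime] {p : ℕ} [Fact p.Prime]
variable (S : Above M)

/-- The reduction of a representation over the valuation ring, on the group algebra. -/
def redAlg {d : ℕ} (ρ : C →* Matrix (Fin d) (Fin d) S.V) :
    MonoidAlgebra S.K C →ₐ[S.K] Matrix (Fin d) (Fin d) S.K :=
  MonoidAlgebra.lift S.K (Matrix (Fin d) (Fin d) S.K) C (S.res.mapMatrix.toMonoidHom.comp ρ)

/-- The representation over the valuation ring, on the group algebra. -/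
def valAlg {d : ℕ} (ρ : C →* Matrix (Fin d) (Fin d) S.V) :
    MonoidAlgebra S.V C →ₐ[S.V] Matrix (Fin d) (Fin d) S.V :=
  MonoidAlgebra.lift S.V (Matrix (Fin d) (Fin d) S.V) C ρ

variable {d : ℕ} (ρ : C →* Matrix (Fin d) (Fin d) S.V)

theorem redAlg_single (g : C) (c : S.K) : redAlg S ρ (single g c) = c • (ρ g).map S.res := by
  rw [redAlg, MonoidAlgebra.lift_single]
  rfl

theorem valAlg_single (g : C) (c : S.V) : valAlg S ρ (single g c) = c • ρ g := by
  rw [valAlg, MonoidAlgebra.lift_single]

theorem map_valAlg (z : MonoidAlgebra S.V C) :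
    (valAlg S ρ z).map S.res = redAlg S ρ (mapRingHom C S.res z) := by
  induction z using MonoidAlgebra.induction_linear with
  | zero => simp
  | add x y hx hy =>
    rw [map_add, map_add, map_add, ← hx, ← hy]
    exact Matrix.map_add _ (map_add S.res) _ _
  | single g c =>
    rw [valAlg_single, mapRingHom_single, redAlg_single]
    ext i j
    simp

theorem trace_valAlg {θ : C → ℂ} (htr : ∀ g, (((ρ g).trace : S.V) : ℂ) = θ g)
    (z : MonoidAlgebra S.V C) :
    (((valAlg S ρ z).trace : S.V) : ℂ) = ∑ g, (z.coeff g : ℂ) * θ g := by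
  classical
  induction z using MonoidAlgebra.induction_linear with
  | zero => simp
  | add x y hx hy =>
    rw [map_add, Matrix.trace_add]
    push_cast
    rw [hx, hy, ← Finset.sum_add_distrib]
    exact Finset.sum_congr rfl fun g _ => by simp; ring
  | single g c =>
    rw [valAlg_single, Matrix.trace_smul, smul_eq_mul]
    push_cast
    simp [htr, Finsupp.single_apply, ite_mul, apply_ite ((↑) : S.V → ℂ)]

theorem degree_eq {θ : C → ℂ} (htr : ∀ g, (((ρ g).trace : S.V) : ℂ) = θ g) : θ 1 = d := by
  rw [← htr, map_one, Matrix.trace_one, Fintype.card_fin]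
  simp

variable [CharP (Res M) p] [IsAlgClosed (Res M)]
  {b : Set (IrrCharacter C)} {P : Subgroup C} {e0 : MonoidAlgebra (Res M) C}
  (H : AbNilp p M b P e0) {θ : IrrCharacter C} (hθ : θ ∈ b)
  (htr : ∀ g, (((ρ g).trace : S.V) : ℂ) = (θ : C → ℂ) g)

/-- The block idempotent over the residue field. -/
def AbNilp.eK : MonoidAlgebra S.K C :=
  mapRingHom C (S.res.comp S.ιV) (idemLoc M b (memLocalRing_blockCoeff H.hB) :
    MonoidAlgebra (locRing M) C)

include H hθ htr in
/-- The block idempotent acts as one. -/
theorem AbNilp.redAlg_eK : redAlg S ρ (H.eK S) = 1 := by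
  classical
  set E : MonoidAlgebra (locRing M) C :=
    (idemLoc M b (memLocalRing_blockCoeff H.hB) : MonoidAlgebra (locRing M) C)
  have hE : E * E = E := congrArg Subtype.val (idemLoc_mul_self (memLocalRing_blockCoeff H.hB))
  set W := valAlg S ρ (mapRingHom C S.ιV E) with hW
  have hWW : W * W = W := by rw [hW, ← map_mul, ← map_mul, hE]
  obtain ⟨r, hr⟩ := BrauerCharacters.exists_rank_of_idempotent hWW
  have hrd : r = d := by
    have h1 := (hr ℂ S.V.subtype).2
    have h2 : ((W.map S.V.subtype).trace : ℂ) = ((W.trace : S.V) : ℂ) := by simp [Matrix.trace]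
    rw [h2, hW, trace_valAlg S ρ htr] at h1
    have h3 : ∑ g, ((mapRingHom C S.ιV E).coeff g : ℂ) * (θ : C → ℂ) g = (θ : C → ℂ) 1 := by
      have h4 := BrauerCharacters.sum_blockCoeff_mul_apply b θ 1
      rw [if_pos hθ] at h4
      rw [← h4]
      refine Finset.sum_congr rfl fun g _ => ?_
      rw [coeff_mapRingHom, mul_one]
      rfl
    rw [h3, degree_eq S ρ htr] at h1
    exact_mod_cast h1.symm
  have hrk := (hr S.K S.res).1
  rw [hrd] at hrk
  have hmap : W.map S.res = redAlg S ρ (H.eK S) := by
    rw [hW, map_valAlg]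
    congr 1
    refine MonoidAlgebra.ext (Finsupp.ext fun g => ?_)
    simp only [AbNilp.eK, coeff_mapRingHom]
    rfl
  rw [← hmap]
  have hsurj : Function.Surjective (W.map S.res).mulVecLin := by
    rw [← LinearMap.range_eq_top]
    exact Submodule.eq_top_of_finrank_eq (hrk.trans (Module.finrank_fin_fun S.K).symm)
  refine Matrix.ext_iff_mulVec.2 fun v => ?_
  obtain ⟨w, rfl⟩ := hsurj v
  rw [Matrix.one_mulVec, Matrix.mulVecLin_apply, Matrix.mulVec_mulVec, ← Matrix.map_mul, hWW]

include H hθ htr in
/-- A trace function of the reduced representation is determined by its value at a defect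
class. -/
theorem AbNilp.trace_function_eq {y : C} (hy : ¬ p ∣ orderOf y)
    (T : MonoidAlgebra S.K C →ₗ[S.K] S.K) (hcl : ∀ a c, T (a * c) = T (c * a))
    (hT : ∀ a, T (a * H.eK S) = T a) {x : C} (hx : ¬ p ∣ orderOf x) :
    T (single x 1) * S.res (ρ y).trace = T (single y 1) * S.res (ρ x).trace := by
  classical
  haveI := Fintype.ofFinite (IrrCharacter C)
  have hclass : ∀ g a : C, T (single (a * g * a⁻¹) 1) = T (single g 1) := fun g a => by
    have h := hcl (single a (1 : S.K)) (single (g * a⁻¹) 1)
    rwa [single_mul_single, single_mul_single, one_mul, ← mul_assoc, inv_mul_cancel_right] at h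
  choose v hv using fun c : ConjClasses C =>
    IsLocalRing.residue_surjective (R := S.V) (T (single c.out 1))
  have hvT : ∀ g, S.res (v (ConjClasses.mk g)) = T (single g 1) := fun g => by
    show IsLocalRing.residue S.V _ = _
    rw [hv]
    obtain ⟨a, ha⟩ := isConj_iff.1 (ConjClasses.mk_eq_mk_iff_isConj.1
      (Quotient.out_eq (ConjClasses.mk g)) : IsConj (ConjClasses.mk g).out g)
    conv_rhs => rw [← ha]
    exact (hclass _ _).symm
  let w : C → S.V := fun g => ∑ h : C,
    S.ιV ⟨blockCoeff b h, memLocalRing_blockCoeff H.hB h⟩ * v (ConjClasses.mk (g * h))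
  have hw : ∀ g, S.res (w g) = T (single g 1) := by
    intro g
    conv_rhs => rw [← hT, BrauerCharacters.single_one_mul_eq_sum, map_sum]
    simp only [w, map_sum, map_mul, hvT, map_smul, smul_eq_mul]
    refine Finset.sum_congr rfl fun h _ => ?_
    rw [AbNilp.eK, coeff_mapRingHom]
    rfl
  let vC : C → ℂ := fun g => (v (ConjClasses.mk g) : ℂ)
  have hvC : IsClassFunction C vC := fun g h => by
    show ((v _ : S.V) : ℂ) = _
    congr 2
    exact ConjClasses.mk_eq_mk_iff_isConj.2 (IsConj.symm (isConj_iff.2 ⟨h, by group⟩))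
  set a := fun χ : IrrCharacter C => classInner vC (χ : C → ℂ)
  have hexp : ∀ g, ¬ p ∣ orderOf g → ((w g : S.V) : ℂ) =
      (∑ χ : IrrCharacter C, if χ ∈ b then a χ else 0) * (θ : C → ℂ) g := by
    intro g hg
    have h1 : ((w g : S.V) : ℂ) = ∑ h : C, blockCoeff b h * vC (g * h) := by
      simp only [w]
      push_cast
      rfl
    have h2 : ∀ h : C, vC (g * h) = ∑ χ : IrrCharacter C, a χ * (χ : C → ℂ) (h * g) := by
      intro h
      have h3 := congrFun (CharTheory.eq_sum_classInner hvC) (g * h)
      rw [h3, Finset.sum_apply]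
      refine Finset.sum_congr rfl fun χ _ => ?_
      rw [Pi.smul_apply, smul_eq_mul]
      congr 1
      conv_lhs => rw [show g * h = g * (h * g) * g⁻¹ by group]
      exact CharTheory.IsIrrCharacter.isClassFunction χ.2 _ _
    simp only [h1, h2, Finset.mul_sum]
    rw [Finset.sum_comm, Finset.sum_mul]
    refine Finset.sum_congr rfl fun χ _ => ?_
    simp only [← mul_assoc, mul_comm (blockCoeff b _) (a χ)]
    simp only [mul_assoc, ← Finset.mul_sum]
    rw [BrauerCharacters.sum_blockCoeff_mul_apply b χ g]
    by_cases hχ : χ ∈ b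
    · obtain ⟨l, rfl⟩ := H.exists_th_eq hθ hχ
      simp [hχ, H.th_regular hθ l hg]
    · simp [hχ]
  rw [← hw, ← hw, ← map_mul, ← map_mul]
  congr 1
  refine Subtype.ext ?_
  push_cast
  rw [hexp x hx, hexp y hy, htr, htr]
  ring

include H hθ htr in
/-- The reduced representation has a single composition type. -/
theorem AbNilp.exists_matrix_quot : ∃ (s : ℕ) (π : (redAlg S ρ).range →ₐ[S.K]
    Matrix (Fin s) (Fin s) S.K), Function.Surjective π ∧ ∀ z, π z = 0 → IsNilpotent z := by
  classical
  haveI : M.IsMaximal := H.hM.2.1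
  haveI : CharP S.K p := S.charP H.hM
  set 𝒜 := (redAlg S ρ).range with h𝒜
  haveI : FiniteDimensional S.K 𝒜 :=
    Module.Finite.of_injective 𝒜.val.toLinearMap Subtype.val_injective
  haveI := IsArtinianRing.of_finite S.K 𝒜
  obtain ⟨m, dm, hdm, ⟨iso⟩⟩ :=
    IsSemisimpleRing.exists_algEquiv_pi_matrix_of_isAlgClosed S.K (𝒜 ⧸ Ring.jacobson 𝒜)
  set π := iso.toAlgHom.comp (Ideal.Quotient.mkₐ S.K (Ring.jacobson 𝒜)) with hπdef
  have hπ : Function.Surjective π :=
    iso.surjective.comp (Ideal.Quotient.mkₐ_surjective S.K _)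
  have hnilp : ∀ z, π z = 0 → IsNilpotent z := by
    intro z hz
    have hz' : z ∈ Ring.jacobson 𝒜 := by
      rw [← Ideal.Quotient.eq_zero_iff_mem, ← map_eq_zero_iff iso iso.injective]
      exact hz
    obtain ⟨k, hk⟩ := IsSemiprimaryRing.isNilpotent (R := 𝒜)
    refine ⟨k, ?_⟩
    have h3 := Ideal.pow_mem_pow hz' k
    rw [hk, Submodule.zero_eq_bot, Submodule.mem_bot] at h3
    exact h3
  have hd0 : (θ : C → ℂ) 1 ≠ 0 := CharTheory.apply_one_ne_zero_of_isIrr θ.2
  have hm0 : m ≠ 0 := by
    rintro rfl
    obtain ⟨k, hk⟩ := hnilp 1 (funext fun i => i.elim0)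
    rw [one_pow] at hk
    have h1 : (1 : Matrix (Fin d) (Fin d) S.K) = 0 := congrArg Subtype.val hk
    rcases Nat.eq_zero_or_pos d with rfl | hd
    · exact hd0 (by rw [degree_eq S ρ htr]; simp)
    · have := congrFun (congrFun h1 ⟨0, hd⟩) ⟨0, hd⟩
      simp at this
  obtain ⟨y, hy⟩ := exists_isDefectClass H.hM H.hB
  have hyreg := not_dvd_orderOf_of_isDefectClass H.hM H.hB hy
  have hyt : S.res (ρ y).trace ≠ 0 := by
    have hloc : MemLocalRing M ((θ : C → ℂ) y) := memLocalRing_of_isIntegral
      (CharTheory.IsCharacter.isIntegral (CharTheory.IsIrrCharacter.isCharacter θ.2) y)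
    have h1 := not_memLocalIdeal_irr_of_blockHeight_eq_zero H.hM H.hB hy hθ (H.height_zero hθ)
    rw [show (ρ y).trace = S.ιV ⟨_, hloc⟩ from Subtype.ext (htr y),
      ← RingHom.comp_apply, show S.res.comp S.ιV ⟨_, hloc⟩ = S.κ (red M ⟨_, hloc⟩) from
        (S.κ_red _).symm, map_ne_zero_iff _ S.κ.injective, Ne, red_eq_zero_iff]
    exact h1
  let rr : MonoidAlgebra S.K C →ₐ[S.K] 𝒜 := (redAlg S ρ).rangeRestrict
  have hrr : Function.Surjective rr := AlgHom.rangeRestrict_surjective _
  have hm1 : m = 1 := by
    by_contra hne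
    have i0 : Fin m := ⟨0, Nat.pos_of_ne_zero hm0⟩
    obtain ⟨i1, hi1⟩ : ∃ i1 : Fin m, i1 ≠ i0 := by
      by_contra h
      push Not at h
      haveI : Subsingleton (Fin m) := ⟨fun a b => (h a).trans (h b).symm⟩
      have := Fintype.card_le_one_iff_subsingleton.2 ‹Subsingleton (Fin m)›
      rw [Fintype.card_fin] at this
      omega
    let Q : ∀ i : Fin m, MonoidAlgebra S.K C →ₐ[S.K] Matrix (Fin (dm i)) (Fin (dm i)) S.K := fun i =>
      ((Pi.evalAlgHom S.K (fun i : Fin m => Matrix (Fin (dm i)) (Fin (dm i)) S.K) i).comp π).comp rr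
    let T : Fin m → MonoidAlgebra S.K C →ₗ[S.K] S.K := fun i =>
      (Matrix.traceLinearMap (Fin (dm i)) S.K S.K).comp (Q i).toLinearMap
    have hTtr : ∀ i u v, T i (u * v) = T i (v * u) := fun i u v => by
      show (Q i (u * v)).trace = (Q i (v * u)).trace
      rw [map_mul, map_mul, Matrix.trace_mul_comm]
    have hTe : ∀ i a, T i (a * H.eK S) = T i a := fun i a => by
      have h1 : rr (a * H.eK S) = rr a := Subtype.ext (by
        show redAlg S ρ (a * H.eK S) = redAlg S ρ a
        rw [map_mul, H.redAlg_eK S ρ hθ htr, mul_one])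
      show (π (rr (a * H.eK S)) i).trace = (π (rr a) i).trace
      rw [h1]
    set c := fun i => T i (single y 1)
    have hval : ∀ (_ : Fin m) (g : C), ∃ t : S.K,
        ∀ i' : Fin m, T i' (single g 1) * S.res (ρ y).trace = c i' * t := by
      intro _ g
      obtain ⟨xp, hxp⟩ := exists_isPPart p g
      obtain ⟨x', hg, hcomm, hxpp, hx'⟩ := hxp
      refine ⟨S.res (ρ x').trace, fun i' => ?_⟩
      have htr' : T i' (single g 1) = T i' (single x' 1) := by
        rw [← hg]
        exact BrauerCharacters.trace_mul_eq_of_commute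
          ((Q i').toMonoidHom.comp (MonoidAlgebra.of S.K C)) hcomm hxpp
      rw [htr']
      exact H.trace_function_eq S ρ hθ htr hyreg (T i') (hTtr i') (hTe i') hx'
    have hzero : ∀ a, c i1 * T i0 a = c i0 * T i1 a := by
      intro a
      induction a using MonoidAlgebra.induction_linear with
      | zero => simp
      | add u v hu hv => simp only [map_add, mul_add, hu, hv]
      | single g r =>
        obtain ⟨t, hall⟩ := hval i0 g
        rw [show single g r = r • single g (1 : S.K) by rw [smul_single', mul_one], map_smul,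
          map_smul, smul_eq_mul, smul_eq_mul]
        refine mul_right_cancel₀ hyt ?_
        linear_combination c i1 * r * hall i0 - c i0 * r * hall i1
    have hTs : ∀ i, ∃ a, T i a = 1 ∧ ∀ i', i' ≠ i → T i' a = 0 := by
      intro i
      haveI := hdm i
      obtain ⟨z, hz⟩ := hπ (Pi.single i (Matrix.single
        ⟨0, Nat.pos_of_ne_zero (hdm i).out⟩ ⟨0, Nat.pos_of_ne_zero (hdm i).out⟩ 1))
      obtain ⟨a, rfl⟩ := hrr z
      refine ⟨a, ?_, fun i' hi' => ?_⟩
      · show (π (rr a) i).trace = 1
        rw [hz, Pi.single_eq_same, Matrix.trace_single_eq_same]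
      · show (π (rr a) i').trace = 0
        rw [hz, Pi.single_eq_of_ne hi', Matrix.trace_zero]
    obtain ⟨a0, ha0, ha0'⟩ := hTs i0
    have hc1 : c i1 = 0 := by
      have := hzero a0
      rwa [ha0, ha0' i1 hi1, mul_one, mul_zero] at this
    obtain ⟨a1, ha1, ha1'⟩ := hTs i1
    have : T i1 a1 = 0 := by
      clear ha1 ha1'
      induction a1 using MonoidAlgebra.induction_linear with
      | zero => simp
      | add u v hu hv => simp only [map_add, hu, hv, add_zero]
      | single g r =>
        obtain ⟨t, hall⟩ := hval i0 g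
        have h := hall i1
        rw [hc1, zero_mul, mul_eq_zero, or_iff_left hyt] at h
        rw [show single g r = r • single g (1 : S.K) by rw [smul_single', mul_one], map_smul,
          h, smul_zero]
    rw [ha1] at this
    exact one_ne_zero this
  subst hm1
  refine ⟨dm 0, (Pi.evalAlgHom S.K (fun i : Fin 1 => Matrix (Fin (dm i)) (Fin (dm i)) S.K) 0).comp π,
    fun z => ?_, fun z hz => hnilp z (funext fun i => ?_)⟩
  · obtain ⟨x, hx⟩ := hπ (Pi.single 0 z)
    exact ⟨x, by simp [hx]⟩
  · obtain rfl := Subsingleton.elim i 0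
    exact hz

omit [CharP (Res M) p] [IsAlgClosed (Res M)] in
theorem sum_units_eq {E : Type*} [Group E] [Fintype E] (l : E →* ℂˣ) :
    ∑ e : E, conj (l e : ℂ) = 0 ∨
      ((∀ e, l e = 1) ∧ ∑ e : E, conj (l e : ℂ) = Nat.card E) := by
  by_cases h : ∀ e, l e = 1
  · exact Or.inr ⟨h, by simp [h, Nat.card_eq_fintype_card]⟩
  · push Not at h
    obtain ⟨e, he⟩ := h
    refine Or.inl ?_
    have hs : ∑ x : E, conj (l x : ℂ) = conj (l e : ℂ) * ∑ x : E, conj (l x : ℂ) := by
      rw [Finset.mul_sum]
      refine (Fintype.sum_equiv (Equiv.mulLeft e) _ _ fun x => ?_).symm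
      rw [← map_mul, ← Units.val_mul, ← map_mul]
      rfl
    by_contra hne
    have h1 : conj (l e : ℂ) = 1 := (mul_left_eq_self₀.1 hs.symm).resolve_right hne
    exact he (Units.ext (by
      have := congrArg conj h1
      rwa [Complex.conj_conj, map_one] at this))

include H hθ htr in
/-- The reduced representation is absolutely irreducible. -/
theorem AbNilp.redAlg_surjective : Function.Surjective (redAlg S ρ) := by
  classical
  haveI : M.IsMaximal := H.hM.2.1
  haveI := Fintype.ofFinite (IrrCharacter C)
  obtain ⟨s, π, hπ, hker⟩ := H.exists_matrix_quot S ρ hθ htr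
  let 𝒜 := (redAlg S ρ).range
  let φ : 𝒜 →ₐ[S.K] Module.End S.K (Fin d → S.K) :=
    (Matrix.toLinAlgEquiv' (R := S.K) (n := Fin d)).toAlgHom.comp 𝒜.val
  obtain ⟨m, hdim, hdvd⟩ := exists_rank_multiple π hπ hker φ
  rw [Module.finrank_fin_fun] at hdim
  -- the class functions
  set θ' : C → ℂ := fun g => (θ : C → ℂ) (regPart p g)
  have hθ' : IsClassFunction C θ' := fun g c => by
    show (θ : C → ℂ) (regPart p (c * g * c⁻¹)) = (θ : C → ℂ) (regPart p g)
    rw [regPart_conj]
    exact CharTheory.IsIrrCharacter.isClassFunction θ.2 _ _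
  set Φ : C → ℂ := ∑ l : P →* ℂˣ, ((H.th hθ l : IrrCharacter C) : C → ℂ) with hΦ
  have hgen : IsGeneralizedCharacter C Φ :=
    Coherence.isGeneralizedCharacter_sum _ _ fun l _ =>
      CharTheory.IsIrrCharacter.isGeneralizedCharacter (H.th hθ l).2
  have hsing : ∀ g, p ∣ orderOf g → Φ g = 0 := by
    intro g hg
    rw [hΦ, Finset.sum_apply, Finset.sum_congr rfl fun l _ => H.th_apply hθ l g, Finset.sum_comm]
    refine Finset.sum_eq_zero fun c hc => ?_
    rcases H.lam_cases g c hc with ⟨x, hxP, -, hx⟩ | h0
    · simp only [hx]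
      rw [← Finset.sum_mul, H.sum_homs, if_neg fun h1 => ?_, zero_mul]
      have hu : ppart p g = 1 := by
        have h2 : x * ppart p g * x⁻¹ = 1 := congrArg Subtype.val h1
        have h3 := congrArg (fun z => x⁻¹ * z * x) h2
        simpa [mul_assoc] using h3
      obtain ⟨s', hs', -, -, hreg⟩ := ppart_spec (p := p) g
      rw [hu, one_mul] at hs'
      exact hreg (hs'.symm ▸ hg)
    · simp [h0 θ hθ]
  have hone : classInner θ' Φ = 1 := by
    have h1 : classInner θ' Φ = classInner (θ : C → ℂ) Φ := by
      rw [classInner, classInner]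
      congr 1
      refine Finset.sum_congr rfl fun g _ => ?_
      by_cases hg : p ∣ orderOf g
      · rw [hsing g hg, map_zero, mul_zero, mul_zero]
      · show (θ : C → ℂ) (regPart p g) * _ = _
        rw [regPart_of_not_dvd hg]
    rw [h1, Frobenius.classInner_comm]
    have h2 : classInner Φ (θ : C → ℂ) = ∑ l : P →* ℂˣ,
        classInner ((H.th hθ l : IrrCharacter C) : C → ℂ) (θ : C → ℂ) := by
      simp only [hΦ, classInner, Finset.sum_apply, Finset.sum_mul]
      rw [Finset.sum_comm, Finset.mul_sum]
    rw [h2, Finset.sum_eq_single 1]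
    · rw [H.th_one, CharTheory.classInner_irrCharacter, if_pos rfl, map_one]
    · intro l _ hl
      rw [CharTheory.classInner_irrCharacter, if_neg fun h => hl (H.th_injective hθ
        (h.trans (H.th_one hθ).symm))]
    · exact fun h => absurd (Finset.mem_univ _) h
  have hm : ∃ k : ℤ, classInner θ' Φ = (m : ℂ) * k := by
    suffices hall : ∀ f ∈ AddSubgroup.closure {f : C → ℂ | ∃ (E : Subgroup C) (l : E →* ℂˣ),
        (∃ q, q.Prime ∧ IsElementary q E) ∧ f = indFun E fun e => (l e : ℂ)},
        ∃ k : ℤ, classInner θ' f = (m : ℂ) * k from hall Φ (Brauer.mem_closure_linear hgen)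
    intro f hmem
    induction hmem using AddSubgroup.closure_induction with
    | mem f hf =>
      obtain ⟨E, lam, ⟨q, hq, hE⟩, rfl⟩ := hf
      haveI : Fintype E := Fintype.ofFinite _
      haveI : Group.IsNilpotent E := Brauer.isNilpotent_of_isElementary hq hE
      rw [Frobenius.classInner_indFun_right E _ θ' hθ']
      let πE : E →* E := MonoidHom.mk' (regPart p) regPart_mul_of_nilpotent
      have hπE : ∀ e, πE (πE e) = πE e := fun e =>
        regPart_of_not_dvd (not_dvd_orderOf_regPart (p := p) e)
      haveI : Fintype πE.ker := Fintype.ofFinite _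
      haveI : Fintype πE.range := Fintype.ofFinite _
      have hr : ∀ r : πE.range, πE (r : E) = r := fun r => by
        obtain ⟨e, he⟩ := r.2
        rw [← he, hπE]
      let eqv : πE.ker × πE.range ≃ E :=
        { toFun := fun tr => (tr.1 : E) * (tr.2 : E)
          invFun := fun e => (⟨e * (πE e)⁻¹, by
              rw [MonoidHom.mem_ker, map_mul, map_inv, hπE, mul_inv_cancel]⟩,
            ⟨πE e, e, rfl⟩)
          left_inv := fun tr => by
            have h1 : πE ((tr.1 : E) * (tr.2 : E)) = tr.2 := by
              rw [map_mul, MonoidHom.mem_ker.1 tr.1.2, one_mul, hr]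
            exact Prod.ext (Subtype.ext (by simp [h1])) (Subtype.ext h1)
          right_inv := fun e => by simp }
      have hsum : ∑ e : E, θ' (e : C) * conj (lam e : ℂ) =
          (∑ t : πE.ker, conj ((lam.comp πE.ker.subtype t : ℂˣ) : ℂ)) *
            ∑ r : πE.range, (θ : C → ℂ) ((r : E) : C) * conj (lam r : ℂ) := by
        rw [← Fintype.sum_equiv eqv (fun tr => θ' ((eqv tr : E) : C) * conj (lam (eqv tr) : ℂ)) _
          (fun tr => rfl), Fintype.sum_prod_type, Finset.sum_mul]
        refine Finset.sum_congr rfl fun t _ => ?_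
        rw [Finset.mul_sum]
        refine Finset.sum_congr rfl fun r _ => ?_
        have h1 : regPart p (((eqv (t, r) : E) : C)) = ((r : E) : C) := by
          rw [show ((eqv (t, r) : E) : C) = E.subtype (eqv (t, r)) from rfl, map_regPart]
          show ((πE ((t : E) * (r : E)) : E) : C) = _
          rw [map_mul, MonoidHom.mem_ker.1 t.2, one_mul, hr]
        show (θ : C → ℂ) (regPart p _) * conj (lam ((t : E) * (r : E)) : ℂ) = _
        rw [h1, map_mul, Units.val_mul, map_mul]
        simp only [MonoidHom.comp_apply, Subgroup.coe_subtype]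
        ring
      have hcardE : (Nat.card E : ℂ) = Nat.card πE.ker * Nat.card πE.range := by
        rw [← Nat.cast_mul, ← Nat.card_prod, Nat.card_congr eqv]
      have hval : classInner (fun h : E => θ' h) (fun e => (lam e : ℂ)) =
          ((Nat.card πE.ker : ℂ)⁻¹ * ∑ t : πE.ker, conj ((lam.comp πE.ker.subtype t : ℂˣ) : ℂ)) *
            ((Nat.card πE.range : ℂ)⁻¹ *
              ∑ r : πE.range, (θ : C → ℂ) ((r : E) : C) * conj (lam r : ℂ)) := by
        rw [classInner, hsum, hcardE, mul_inv]
        ring
      rw [hval]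
      rcases sum_units_eq (lam.comp πE.ker.subtype) with h0 | ⟨-, h0⟩
      · exact ⟨0, by rw [h0]; simp⟩
      rw [h0, inv_mul_cancel₀ (Nat.cast_ne_zero.2 Nat.card_pos.ne'), one_mul]
      -- the idempotent
      have hpR : ¬ p ∣ Nat.card πE.range := fun hd => by
        obtain ⟨r, hr'⟩ := exists_prime_orderOf_dvd_card' p hd
        refine not_dvd_orderOf_regPart (p := p) (r : E) (dvd_of_eq ?_)
        have h2 : regPart p (r : E) = (r : E) := hr r
        rw [h2, Subgroup.orderOf_coe, hr']
      have ha : ∀ r : πE.range,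
          MemLocalRing M ((Nat.card πE.range : ℂ)⁻¹ * conj (lam r : ℂ)) := fun r =>
        memLocalRing_mul (memLocalRing_inv_natCast H.hM hpR)
          (memLocalRing_of_isIntegral (IsIntegral.of_pow (orderOf_pos (r : E)) (by
            rw [← map_pow, ← Units.val_pow_eq_pow_val, ← map_pow, pow_orderOf_eq_one, map_one,
              Units.val_one, map_one]
            exact isIntegral_one)))
      let av : πE.range → S.V := fun r => S.ιV ⟨_, ha r⟩
      have hav : ∀ r, (av r : ℂ) = (Nat.card πE.range : ℂ)⁻¹ * conj (lam r : ℂ) := fun r => rfl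
      set z : MonoidAlgebra S.V C := ∑ r : πE.range, single ((r : E) : C) (av r) with hz
      have hzz : z * z = z := by
        rw [hz, Finset.sum_mul]
        calc ∑ r : πE.range, single ((r : E) : C) (av r) * ∑ q : πE.range, single ((q : E) : C) (av q)
            = ∑ r : πE.range, ∑ w : πE.range, single ((w : E) : C) (av r * av (r⁻¹ * w)) := by
              refine Finset.sum_congr rfl fun r _ => ?_
              rw [Finset.mul_sum]
              refine Fintype.sum_equiv (Equiv.mulLeft r) _ _ fun q => ?_
              rw [single_mul_single]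
              simp
          _ = ∑ w : πE.range, single ((w : E) : C) (av w) := by
              rw [Finset.sum_comm]
              refine Finset.sum_congr rfl fun w _ => ?_
              refine (map_sum (MonoidAlgebra.singleAddHom ((w : E) : C)) _ _).symm.trans
                (congrArg (single ((w : E) : C)) (Subtype.ext ?_))
              push_cast
              simp only [hav]
              have hterm : ∀ r : πE.range, (Nat.card πE.range : ℂ)⁻¹ * conj (lam r : ℂ) *
                  ((Nat.card πE.range : ℂ)⁻¹ * conj (lam ((r⁻¹ * w : πE.range) : E) : ℂ)) =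
                  (Nat.card πE.range : ℂ)⁻¹ *
                    ((Nat.card πE.range : ℂ)⁻¹ * conj (lam w : ℂ)) := fun r => by
                rw [mul_mul_mul_comm, ← map_mul (starRingEnd ℂ), ← Units.val_mul, ← map_mul,
                  ← Subgroup.coe_mul, mul_inv_cancel_left, mul_assoc]
              rw [Finset.sum_congr rfl fun r _ => hterm r, Finset.sum_const, Finset.card_univ,
                ← Nat.card_eq_fintype_card, nsmul_eq_mul, ← mul_assoc,
                mul_inv_cancel₀ (Nat.cast_ne_zero.2 Nat.card_pos.ne'), one_mul]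
      set W := valAlg S ρ z
      have hWW : W * W = W := by rw [← map_mul, hzz]
      obtain ⟨r0, hr0⟩ := BrauerCharacters.exists_rank_of_idempotent hWW
      have htrace : (Nat.card πE.range : ℂ)⁻¹ *
          ∑ r : πE.range, (θ : C → ℂ) ((r : E) : C) * conj (lam r : ℂ) = (r0 : ℂ) := by
        rw [← (hr0 ℂ S.V.subtype).2, show (W.map S.V.subtype).trace = ((W.trace : S.V) : ℂ) by
          simp [Matrix.trace], trace_valAlg S ρ htr, hz, Finset.mul_sum]
        simp only [coeff_finsetSum_apply]
        push_cast
        simp only [Finset.sum_mul]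
        rw [Finset.sum_comm]
        refine Finset.sum_congr rfl fun r _ => ?_
        rw [Finset.sum_eq_single ((r : E) : C)]
        · simp [hav]; ring
        · intro g _ hg; simp [Ne.symm hg]
        · exact fun h => absurd (Finset.mem_univ _) h
      rw [htrace]
      let εA : 𝒜 := ⟨W.map S.res, ⟨mapRingHom C S.res z, (map_valAlg S ρ z).symm⟩⟩
      have hεA : εA * εA = εA := Subtype.ext (by
        show W.map S.res * W.map S.res = W.map S.res
        rw [← Matrix.map_mul, hWW])
      obtain ⟨k, hk⟩ := hdvd εA hεA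
      rw [show φ εA = (W.map S.res).mulVecLin from rfl, (hr0 S.K S.res).1] at hk
      exact ⟨k, by rw [hk]; push_cast; ring⟩
    | zero => exact ⟨0, by simp [classInner]⟩
    | add x y _ _ hx hy =>
      obtain ⟨k1, h1⟩ := hx
      obtain ⟨k2, h2⟩ := hy
      refine ⟨k1 + k2, ?_⟩
      push_cast
      rw [mul_add, ← h1, ← h2]
      simp [classInner, mul_add, Finset.sum_add_distrib]
    | neg x _ hx =>
      obtain ⟨k, h⟩ := hx
      refine ⟨-k, ?_⟩
      push_cast
      rw [mul_neg, ← h]
      simp [classInner]
  obtain ⟨k, hk⟩ := hm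
  rw [hone] at hk
  have hm1 : m = 1 := by
    have h1 : (m : ℤ) * k = 1 := by exact_mod_cast hk.symm
    exact_mod_cast Int.eq_one_of_mul_eq_one_right (Int.natCast_nonneg m) h1
  have hds : d = s := by rw [hdim, hm1, mul_one]
  subst hds
  have hfin : finrank S.K (Matrix (Fin d) (Fin d) S.K) ≤ finrank S.K 𝒜 :=
    LinearMap.finrank_le_finrank_of_surjective (f := π.toLinearMap) hπ
  have htop : (redAlg S ρ).range = ⊤ := Subalgebra.toSubmodule.injective
    ((Submodule.eq_top_of_finrank_eq (le_antisymm (Submodule.finrank_le _) hfin)).trans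
      Algebra.top_toSubmodule.symm)
  exact AlgHom.range_eq_top _ |>.1 htop

end CfsgLib.Jordan.CyclicDefect
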